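import Groth.Agent.FMTool.AVBase
import Groth.Agent.AgSymm.Basic

/-!
The Fourier-Mukai functor of an abelian variety and translations.
-/

set_option autoImplicit false
set_option backward.isDefEq.respectTransparency false
set_option backward.isDefEq.respectTransparency.types false
set_option linter.style.haveILetI false
set_option linter.unusedSectionVars false
set_option maxHeartbeats 1000000

universe u

open CategoryTheory MonoidalCategory CartesianMonoidalCategory MonObj GrpObj AlgebraicGeometry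
open Groth.Agent.W7Cube (pull pull_pull pull_cls)
open Groth.Agent.AbPrim (val pull_val)

attribute [local instance] HasDerivedCategory.standard
noncomputable section

namespace Groth.Agent.FMTool

attribute [local instance] W7Cube.law

variable {S : Scheme.{u}} {A At : Over S}

/-- the graph of a constant point -/
lemma isPullback_point (x : 𝟙_ (Over S) ⟶ At) :
    IsPullback (lift (𝟙 A) (toUnit A ≫ x)).left A.hom (Limits.pullback.snd A.hom At.hom) x.left := by
  have h₁ : (lift (𝟙 A) (toUnit A ≫ x)).left ≫ Limits.pullback.fst A.hom At.hom = 𝟙 A.left :=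
    congrArg (fun f => f.left) (lift_fst (𝟙 A) (toUnit A ≫ x))
  refine IsPullback.of_right (h₁₂ := Limits.pullback.fst A.hom At.hom) (v₁₃ := A.hom) (h₂₂ := At.hom) ?_
    (congrArg (fun f => f.left) (lift_snd (𝟙 A) (toUnit A ≫ x))) (IsPullback.of_hasPullback _ _)
  rw [h₁, show x.left ≫ At.hom = 𝟙 S from Over.w x]
  exact IsPullback.of_horiz_isIso ⟨by rfl⟩

/-- changes of the second factor -/
lemma isPullback_whiskerLeft {T : Over S} (t : T ⟶ At) :
    IsPullback (A ◁ t).left (Limits.pullback.snd A.hom T.hom) (Limits.pullback.snd A.hom At.hom) t.left := by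
  refine IsPullback.of_right (h₁₂ := Limits.pullback.fst A.hom At.hom) (v₁₃ := A.hom) (h₂₂ := At.hom) ?_
    (congrArg (fun f => f.left) (whiskerLeft_snd A t)) (IsPullback.of_hasPullback _ _)
  rw [show t.left ≫ At.hom = T.hom from Over.w t,
    show (A ◁ t).left ≫ Limits.pullback.fst A.hom At.hom = Limits.pullback.fst A.hom T.hom from
      congrArg (fun f => f.left) (whiskerLeft_fst A t)]
  exact IsPullback.of_hasPullback _ _

variable [GrpObj A] [GrpObj At]

lemma isIso_translate (x : 𝟙_ (Over S) ⟶ A) : IsIso (𝟙 A * (toUnit A ≫ x)) := by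
  refine ⟨𝟙 A * (toUnit A ≫ x⁻¹), ?_, ?_⟩
  · rw [comp_mul, Category.comp_id, ← Category.assoc, toUnit_unique ((𝟙 A * _) ≫ toUnit A) (toUnit A),
      _root_.mul_assoc, ← comp_mul, mul_inv_cancel, comp_one, _root_.mul_one]
  · rw [comp_mul, Category.comp_id, ← Category.assoc, toUnit_unique ((𝟙 A * _) ≫ toUnit A) (toUnit A),
      _root_.mul_assoc, ← comp_mul, inv_mul_cancel, comp_one, _root_.mul_one]

lemma isPullback_whiskerRight (x : 𝟙_ (Over S) ⟶ A) :
    IsPullback ((𝟙 A * (toUnit A ≫ x)) ▷ At).left (Limits.pullback.snd A.hom At.hom)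
      (Limits.pullback.snd A.hom At.hom) (𝟙 At.left) := by
  haveI := isIso_translate x
  haveI : IsIso ((𝟙 A * (toUnit A ≫ x)) ▷ At).left :=
    inferInstanceAs (IsIso ((Over.forget S).map ((𝟙 A * (toUnit A ≫ x)) ▷ At)))
  exact IsPullback.of_horiz_isIso ⟨(congrArg (fun f => f.left) (whiskerRight_snd (𝟙 A * (toUnit A ≫ x)) At)).trans
    (Category.comp_id _).symm⟩

variable [IsProper A.hom] [Smooth A.hom] [GeometricallyConnected A.hom]
  {φ : ∀ T : Over S, PicF.Cl (PicF.XT A.hom T) → (T ⟶ At)} (Q : AgSymm.Poincare φ)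

lemma val_fst_snd : val Q.x (fst A At) (snd A At) = Q.x := by
  change pull (lift (fst A At) (snd A At)).left Q.x = Q.x
  rw [lift_fst_snd]
  exact PicGrp.pullHom_id_apply _ _

/-- translating the Poincaré class in the second variable -/
lemma pull_translate_right (hA : AbDual.IsDualAV Scheme.fppfPrecoverage A At φ) (x : 𝟙_ (Over S) ⟶ At) :
    pull (A ◁ (𝟙 At * (toUnit At ≫ x))).left Q.x =
      pull (fst A At).left (pull (lift (𝟙 A) (toUnit A ≫ x)).left Q.x) * Q.x := by
  have h : A ◁ (𝟙 At * (toUnit At ≫ x)) = lift (fst A At) (snd A At * (toUnit (A ⊗ At) ≫ x)) :=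
    CartesianMonoidalCategory.hom_ext _ _ (by simp) (by
      rw [whiskerLeft_snd, lift_snd, comp_mul, Category.comp_id, ← Category.assoc, toUnit_unique (_ ≫ _) (toUnit _)])
  rw [h]
  change val Q.x (fst A At) (snd A At * (toUnit (A ⊗ At) ≫ x)) = pull _ (val Q.x (𝟙 A) (toUnit A ≫ x)) * Q.x
  rw [Q.val_mul_right hA, pull_val, Category.comp_id, ← Category.assoc, toUnit_unique (_ ≫ _) (toUnit _),
    val_fst_snd, _root_.mul_comm]

/-- translating the Poincaré class in the first variable -/
lemma pull_translate_left (x : 𝟙_ (Over S) ⟶ A) :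
    pull ((𝟙 A * (toUnit A ≫ x)) ▷ At).left
      (Q.x * pull (snd A At).left (pull (lift (toUnit At ≫ x⁻¹) (𝟙 At)).left Q.x)) = Q.x := by
  change pull _ (Q.x * pull _ (val Q.x (toUnit At ≫ x⁻¹) (𝟙 At))) = Q.x
  rw [pull_val, Category.comp_id, ← Category.assoc, toUnit_unique (_ ≫ _) (toUnit _)]
  conv_lhs => arg 2; arg 1; rw [← val_fst_snd Q]
  rw [← Q.val_mul_left, pull_val, comp_mul, whiskerRight_fst, whiskerRight_snd, comp_mul, Category.comp_id,
    ← Category.assoc, toUnit_unique (_ ≫ _) (toUnit _), ← Category.assoc _ (toUnit (A ⊗ At)),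
    toUnit_unique (_ ≫ toUnit (A ⊗ At)) (toUnit _), _root_.mul_assoc, ← comp_mul, mul_inv_cancel, comp_one,
    _root_.mul_one, val_fst_snd]

variable {P : (Limits.pullback A.hom At.hom).Modules} (hP : PicF.IsInvertible P)

include hP in
lemma nonempty_iso_right (hA : AbDual.IsDualAV Scheme.fppfPrecoverage A At φ) (hQ : Q.x.1 = PicF.cl P)
    (x : 𝟙_ (Over S) ⟶ At) :
    Nonempty ((Scheme.Modules.pullback (A ◁ (𝟙 At * (toUnit At ≫ x))).left).obj P ≅
      CohB1.tensorMod ((Scheme.Modules.pullback (Limits.pullback.fst A.hom At.hom)).obj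
        ((Scheme.Modules.pullback (lift (𝟙 A) (toUnit A ≫ x)).left).obj P)) P) := by
  have e := pull_translate_right Q hA x
  rw [show Q.x = PicGrp.cls (Y := (A ⊗ At).left) P hP from Subtype.ext hQ, pull_cls, pull_cls, pull_cls] at e
  exact (PicGrp.cls_eq_cls_iff _ (TMul.isInvertible_tensorMod
    (PicLoc.isInvertible_pullback _ (PicLoc.isInvertible_pullback _ hP)) hP)).1 e

include hP in
lemma nonempty_iso_left (hQ : Q.x.1 = PicF.cl P) (x : 𝟙_ (Over S) ⟶ A) :
    Nonempty ((Scheme.Modules.pullback ((𝟙 A * (toUnit A ≫ x)) ▷ At).left).obj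
      (CohB1.tensorMod P ((Scheme.Modules.pullback (Limits.pullback.snd A.hom At.hom)).obj
        ((Scheme.Modules.pullback (lift (toUnit At ≫ x⁻¹) (𝟙 At)).left).obj P))) ≅ P) := by
  have e := pull_translate_left Q x
  rw [show Q.x = PicGrp.cls (Y := (A ⊗ At).left) P hP from Subtype.ext hQ, pull_cls, pull_cls] at e
  have e' := (pull_cls ((𝟙 A * (toUnit A ≫ x)) ▷ At).left _ (TMul.isInvertible_tensorMod hP
    (PicLoc.isInvertible_pullback (snd A At).left
      (PicLoc.isInvertible_pullback (lift (toUnit At ≫ x⁻¹) (𝟙 At)).left hP)))).symm.trans e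
  exact (PicGrp.cls_eq_cls_iff _ hP).1 e'

end Groth.Agent.FMTool
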