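import Groth.Agent.FMTool.AV
import Groth.Agent.AbPrim.Dual

/-!
Direct images and the Fourier-Mukai transform.
-/

set_option autoImplicit false
set_option backward.isDefEq.respectTransparency false
set_option backward.isDefEq.respectTransparency.types false
set_option linter.style.haveILetI false
set_option linter.unusedSectionVars false
set_option maxHeartbeats 1000000

universe u

open CategoryTheory MonoidalCategory CartesianMonoidalCategory MonObj GrpObj AlgebraicGeometry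
open Groth.Agent.W7Cube (pull pull_pull pull_cls)
open Groth.Agent.AbPrim (val pull_val)

attribute [local instance] HasDerivedCategory.standard

noncomputable section

namespace Groth.Agent.FMTool

attribute [local instance] W7Cube.law

section Scheme

variable {X X' Y Y' Z Z' W : Scheme.{u}} {f : X ⟶ X'} {ft : Y' ⟶ Y} {p₁ : Z ⟶ X} {p₂ : Z ⟶ Y} {q₁ : Z' ⟶ X'}
  {q₂ : Z' ⟶ Y'} {r : W ⟶ X} {g : W ⟶ Z} {h : W ⟶ Z'}

/-- direct images correspond to inverse images of transforms -/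
theorem nonempty_transform_push [QuasiCompact p₂] [QuasiSeparated p₂] [Flat p₂] [QuasiCompact f] [QuasiSeparated f]
    [Flat q₁] [QuasiCompact h] [QuasiSeparated h] (H₁ : IsPullback g (h ≫ q₂) p₂ ft) (H₂ : IsPullback r h f q₁)
    (hr : g ≫ p₁ = r) {P : Z.Modules} (hP : PicF.IsInvertible P) {Q : Z'.Modules} (hQ : PicF.IsInvertible Q)
    (e : (Scheme.Modules.pullback g).obj P ≅ (Scheme.Modules.pullback h).obj Q)
    [DCoh.HasLpull p₁] [DCoh.HasLTensorMod P] [DCoh.HasRpush p₂] [DCoh.HasLpull q₁] [DCoh.HasLTensorMod Q]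
    [DCoh.HasRpush q₂] [DCoh.HasRpush f] [DCoh.HasLpull ft] :
    Nonempty (ObjectProperty.ι (DCoh.IsQCohD (X := X)) ⋙ DCoh.Rpush f ⋙
        (DCoh.Lpull q₁ ⋙ DCoh.LTensorMod Q ⋙ DCoh.Rpush q₂) ≅
      ObjectProperty.ι (DCoh.IsQCohD (X := X)) ⋙
        (DCoh.Lpull p₁ ⋙ DCoh.LTensorMod P ⋙ DCoh.Rpush p₂) ⋙ DCoh.Lpull ft) := by
  haveI := KFlat.hasLpull g
  haveI := KFlat.hasLpull h
  haveI := KFlat.hasLpull r
  haveI := KFlat.hasLpull (𝟙 X)
  haveI := DerPush.hasRpush_sch h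
  haveI : DCoh.HasRpush (h ≫ q₂) := DerPush.hasRpush_sch _
  haveI := KFlat.hasLTensorMod ((Scheme.Modules.pullback g).obj P)
  haveI := KFlat.hasLTensorMod ((Scheme.Modules.pullback h).obj Q)
  haveI := KFlat.hasLTensorCx (TorBC.sg Q)
  haveI := KFlat.hasLTensorCx (TorBC.sg ((Scheme.Modules.pullback h).obj Q))
  obtain ⟨b₁⟩ := nonempty_bcNat H₁ (Or.inr ‹Flat p₂›)
  obtain ⟨eT⟩ := nonempty_ltmod_lpull g hP
  obtain ⟨eS⟩ := nonempty_lpull_square (show g ≫ p₁ = r ≫ 𝟙 X by simpa using hr)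
  obtain ⟨e₀⟩ := nonempty_lpull_id X
  obtain ⟨eC⟩ := nonempty_ltmod_congr e
  obtain ⟨b₂⟩ := nonempty_bcNat H₂ (Or.inl ‹Flat q₁›)
  obtain ⟨lQ⟩ := nonempty_ltmod Q
  obtain ⟨lQ'⟩ := nonempty_ltmod ((Scheme.Modules.pullback h).obj Q)
  obtain ⟨sQ⟩ := nonempty_lpull_sg h hQ
  obtain ⟨eQ⟩ := nonempty_projNat h (TorBC.sg Q) (isQCohD_sg_invertible hQ) _ sQ
  obtain ⟨ec⟩ := HTorBC.nonempty_rpush_comp h q₂
  let J := ObjectProperty.ι (DCoh.IsQCohD (X := X))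
  let G := DCoh.Lpull p₁ ⋙ DCoh.LTensorMod P
  let G' := DCoh.Lpull r ⋙ DCoh.LTensorMod ((Scheme.Modules.pullback h).obj Q)
  have hG : ∀ E, DCoh.IsQCohD E → DCoh.IsQCohD (G.obj E) := fun E hE =>
    isQCohD_ltmod hP _ (DQCoh.isQCohD_Lpull p₁ E hE)
  have hr' : ∀ E, DCoh.IsQCohD E → DCoh.IsQCohD ((DCoh.Lpull r).obj E) := fun E hE => DQCoh.isQCohD_Lpull r E hE
  let e₁ : G ⋙ DCoh.Lpull g ≅ G' :=
    Functor.associator _ _ _ ≪≫ Functor.isoWhiskerLeft _ (eT ≪≫ Functor.isoWhiskerLeft _ eC) ≪≫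
      (Functor.associator _ _ _).symm ≪≫
      Functor.isoWhiskerRight (eS ≪≫ Functor.isoWhiskerRight e₀ _ ≪≫ Functor.leftUnitor _) _
  -- the right-hand side
  let R₁ : J ⋙ (DCoh.Lpull p₁ ⋙ DCoh.LTensorMod P ⋙ DCoh.Rpush p₂) ⋙ DCoh.Lpull ft ≅
      J ⋙ G' ⋙ DCoh.Rpush (h ≫ q₂) :=
    Functor.isoWhiskerLeft J (Functor.isoWhiskerRight (Functor.associator _ _ _).symm _ ≪≫
      Functor.associator _ _ _) ≪≫ restrictNat hG b₁ ≪≫
      Functor.isoWhiskerLeft J ((Functor.associator _ _ _).symm ≪≫ Functor.isoWhiskerRight e₁ _)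
  -- the left-hand side
  let L₁ : J ⋙ DCoh.Rpush f ⋙ (DCoh.Lpull q₁ ⋙ DCoh.LTensorMod Q ⋙ DCoh.Rpush q₂) ≅
      J ⋙ DCoh.Lpull r ⋙ DCoh.Rpush h ⋙ DCoh.LTensorMod Q ⋙ DCoh.Rpush q₂ :=
    Functor.isoWhiskerLeft J (Functor.associator _ _ _).symm ≪≫ (Functor.associator _ _ _).symm ≪≫
      Functor.isoWhiskerRight b₂ _ ≪≫ Functor.associator _ _ _ ≪≫
      Functor.isoWhiskerLeft J (Functor.associator _ _ _)
  let L₂ : J ⋙ DCoh.Lpull r ⋙ DCoh.Rpush h ⋙ DCoh.LTensorMod Q ⋙ DCoh.Rpush q₂ ≅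
      J ⋙ DCoh.Lpull r ⋙ (DCoh.Rpush h ⋙ DCoh.LTensorCx (TorBC.sg Q)) ⋙ DCoh.Rpush q₂ :=
    Functor.isoWhiskerLeft J (Functor.isoWhiskerLeft _ ((Functor.associator _ _ _).symm ≪≫
      Functor.isoWhiskerRight (Functor.isoWhiskerLeft _ lQ) _))
  let L₃ : J ⋙ DCoh.Lpull r ⋙ (DCoh.Rpush h ⋙ DCoh.LTensorCx (TorBC.sg Q)) ⋙ DCoh.Rpush q₂ ≅
      J ⋙ DCoh.Lpull r ⋙
        (DCoh.LTensorCx (TorBC.sg ((Scheme.Modules.pullback h).obj Q)) ⋙ DCoh.Rpush h) ⋙ DCoh.Rpush q₂ :=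
    restrictNat hr' ((Functor.associator _ _ _).symm ≪≫ Functor.isoWhiskerRight eQ _ ≪≫ Functor.associator _ _ _)
  let L₄ : J ⋙ DCoh.Lpull r ⋙
        (DCoh.LTensorCx (TorBC.sg ((Scheme.Modules.pullback h).obj Q)) ⋙ DCoh.Rpush h) ⋙ DCoh.Rpush q₂ ≅
      J ⋙ G' ⋙ DCoh.Rpush (h ≫ q₂) :=
    Functor.isoWhiskerLeft J (Functor.isoWhiskerLeft _ (Functor.associator _ _ _ ≪≫
      Functor.isoWhiskerLeft _ ec ≪≫ Functor.isoWhiskerRight lQ'.symm _) ≪≫ (Functor.associator _ _ _).symm)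
  exact ⟨L₁ ≪≫ L₂ ≪≫ L₃ ≪≫ L₄ ≪≫ R₁.symm⟩

end Scheme

variable {S : Scheme.{u}} {A B At Bt : Over S}

lemma bcMap_eq (f : A ⟶ B) (T : Over S) : AbDual.bcMap f T = (f ▷ T).left := by
  refine Limits.pullback.hom_ext ?_ ?_ <;> simp [AbDual.bcMap]

lemma whiskerRight_left_snd (f : A ⟶ B) (T : Over S) :
    (f ▷ T).left ≫ Limits.pullback.snd B.hom T.hom = Limits.pullback.snd A.hom T.hom :=
  congrArg (fun m => m.left) (whiskerRight_snd f T)

lemma isPullback_fst_whiskerRight (f : A ⟶ B) (T : Over S) :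
    IsPullback (Limits.pullback.fst A.hom T.hom) (f ▷ T).left f.left (Limits.pullback.fst B.hom T.hom) := by
  refine (IsPullback.of_right (h₁₁ := (f ▷ T).left) (h₁₂ := Limits.pullback.snd B.hom T.hom)
    (v₁₁ := Limits.pullback.fst A.hom T.hom) (v₁₂ := Limits.pullback.fst B.hom T.hom) (v₁₃ := T.hom)
    (h₂₁ := f.left) (h₂₂ := B.hom) ?_ (congrArg (fun m => m.left) (whiskerRight_fst f T))
    (IsPullback.of_hasPullback _ _).flip).flip
  rw [whiskerRight_left_snd, show f.left ≫ B.hom = A.hom from Over.w f]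
  exact (IsPullback.of_hasPullback _ _).flip

lemma flat_fst (B T : Over S) [Flat T.hom] : Flat (Limits.pullback.fst B.hom T.hom) := inferInstance

variable [GrpObj A] [GrpObj At] [GrpObj B] [GrpObj Bt] [IsProper A.hom] [Smooth A.hom]
  [GeometricallyConnected A.hom] {φA : ∀ T : Over S, PicF.Cl (PicF.XT A.hom T) → (T ⟶ At)}
  {φB : ∀ T : Over S, PicF.Cl (PicF.XT B.hom T) → (T ⟶ Bt)}
  (hA : AbDual.IsDualAV Scheme.fppfPrecoverage A At φA) (QA : AgSymm.Poincare φA) (QB : AgSymm.Poincare φB)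
  {f : A ⟶ B} [IsMonHom f] {ft : Bt ⟶ At} (hft : AbDual.IsTranspose f φA φB ft)

include hA hft in
lemma pull_transpose : pull (f ▷ Bt).left QB.x = pull (A ◁ ft).left QA.x := by
  rw [← bcMap_eq]
  have hr : val (pull (AbDual.bcMap f Bt) QB.x) 1 (𝟙 Bt) = 1 := by
    rw [bcMap_eq]
    change pull _ _ = 1
    refine (pull_pull _ _ _).trans ?_
    rw [← Over.comp_left, lift_whiskerRight, MonObj.one_comp]
    exact QB.rig
  refine (QA.eq_cls hA (AbPrim.picZero_bcMap f QB.picZero) hr).trans ?_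
  rw [show φA Bt (pull (AbDual.bcMap f Bt) QB.x).1 = ft from
    (hft Bt QB.x.1 QB.picZero).trans (by rw [QB.phi, Category.id_comp]), QA.cls_eq, AgSymm.XTmap_eq]
  rfl

include hA hft in
lemma nonempty_iso_transpose {P : (Limits.pullback A.hom At.hom).Modules} (hP : PicF.IsInvertible P)
    (hPQ : QA.x.1 = PicF.cl P) {P' : (Limits.pullback B.hom Bt.hom).Modules} (hP' : PicF.IsInvertible P')
    (hPQ' : QB.x.1 = PicF.cl P') :
    Nonempty ((Scheme.Modules.pullback (A ◁ ft).left).obj P ≅ (Scheme.Modules.pullback (f ▷ Bt).left).obj P') := by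
  have e := (pull_transpose hA QA QB hft).symm
  rw [show QA.x = PicGrp.cls (Y := (A ⊗ At).left) P hP from Subtype.ext hPQ,
    show QB.x = PicGrp.cls (Y := (B ⊗ Bt).left) P' hP' from Subtype.ext hPQ', pull_cls, pull_cls] at e
  exact (PicGrp.cls_eq_cls_iff _ _).1 e

end Groth.Agent.FMTool
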