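import Groth.Agent.FMTool.AV
import Groth.Agent.DCohShriek.DualModule
import Groth.Agent.S2122
import Groth.Agent.W7Cube.Group

/-!
Pulling the Fourier-Mukai transform of a line bundle back along its polarisation map.
-/

set_option autoImplicit false
set_option backward.isDefEq.respectTransparency false
set_option backward.isDefEq.respectTransparency.types false
set_option linter.style.haveILetI false
set_option linter.unusedSectionVars false
set_option maxHeartbeats 1000000

universe u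

open CategoryTheory MonoidalCategory CartesianMonoidalCategory MonObj GrpObj AlgebraicGeometry
open Groth.Agent.W7Cube (pull pull_pull pull_cls pc pc_one pc_id pull_pc)
open Groth.Agent.AbPrim (val pull_val)

attribute [local instance] HasDerivedCategory.standard

noncomputable section

namespace Groth.Agent.FMTool

attribute [local instance] W7Cube.law

variable {X Y : Scheme.{u}}

/-- a module in degree zero -/
def inDIso (M : X.Modules) : DCoh.inD X M ≅ DCoh.toD X (TorBC.sg M) :=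
  (DerivedCategory.singleFunctorIsoCompQ X.Modules 0).app M

/-- invertible modules have quasi-coherent classes in degree zero -/
lemma isQCohD_inD_invertible {M : X.Modules} (hM : PicF.IsInvertible M) : DCoh.IsQCohD (DCoh.inD X M) :=
  ObjectProperty.prop_of_iso (DCoh.IsQCohD (X := X)) (inDIso M).symm (isQCohD_sg_invertible hM)

/-- tensor products of invertible modules in degree zero -/
theorem nonempty_ltmod_inD {L : X.Modules} (hL : PicF.IsInvertible L) (M : X.Modules) [DCoh.HasLTensorMod M] :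
    Nonempty ((DCoh.LTensorMod M).obj (DCoh.inD X L) ≅ DCoh.inD X (CohB1.tensorMod L M)) := by
  haveI := KFlat.hasLTensorCx (TorBC.sg M)
  obtain ⟨a⟩ := nonempty_ltmod M
  obtain ⟨e⟩ := nonempty_ltensor_sg hL M
  exact ⟨a.app _ ≪≫ (DCoh.LTensorCx (TorBC.sg M)).mapIso (inDIso L) ≪≫ e.symm ≪≫ (inDIso _).symm⟩

/-- inverse images of invertible modules in degree zero -/
theorem nonempty_lpull_inD (f : Y ⟶ X) [DCoh.HasLpull f] {M : X.Modules} (hM : PicF.IsInvertible M) :
    Nonempty ((DCoh.Lpull f).obj (DCoh.inD X M) ≅ DCoh.inD Y ((Scheme.Modules.pullback f).obj M)) := by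
  obtain ⟨e⟩ := nonempty_lpull_sg f hM
  exact ⟨(DCoh.Lpull f).mapIso (inDIso M) ≪≫ e.symm ≪≫ (inDIso _).symm⟩

/-- isomorphic modules in degree zero -/
def inDMap {M N : X.Modules} (e : M ≅ N) : DCoh.inD X M ≅ DCoh.inD X N :=
  inDIso M ≪≫ DerivedCategory.Q.mapIso ((HomologicalComplex.single X.Modules (ComplexShape.up ℤ) 0).mapIso e) ≪≫
    (inDIso N).symm

variable {k : Type u} [Field k] {A At : Over (Spec (CommRingCat.of k))} [GrpObj A] [GrpObj At]

/-- the automorphism `(a, b) ↦ (a + b, b)` -/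
def shear (A : Over (Spec (CommRingCat.of k))) [GrpObj A] : A ⊗ A ≅ A ⊗ A where
  hom := lift (fst A A * snd A A) (snd A A)
  inv := lift (fst A A * (snd A A)⁻¹) (snd A A)
  hom_inv_id := CartesianMonoidalCategory.hom_ext _ _ (by simp [MonObj.comp_mul, GrpObj.comp_inv]) (by simp)
  inv_hom_id := CartesianMonoidalCategory.hom_ext _ _ (by simp [MonObj.comp_mul, GrpObj.comp_inv]) (by simp)

lemma isPullback_shear (A : Over (Spec (CommRingCat.of k))) [GrpObj A] :
    IsPullback (shear A).hom.left (Limits.pullback.snd A.hom A.hom) (Limits.pullback.snd A.hom A.hom)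
      (𝟙 A.left) := by
  haveI : IsIso (shear A).hom.left := inferInstanceAs (IsIso ((Over.forget _).map (shear A).hom))
  exact IsPullback.of_horiz_isIso ⟨(congrArg (fun f => f.left) (lift_snd (fst A A * snd A A) (snd A A))).trans
    (Category.comp_id _).symm⟩

variable [IsProper A.hom] [Smooth A.hom] [GeometricallyConnected A.hom]
  {φ : ∀ T : Over (Spec (CommRingCat.of k)), PicF.Cl (PicF.XT A.hom T) → (T ⟶ At)}
  (hA : AbDual.IsDualAV Scheme.fppfPrecoverage A At φ) (Q : AgSymm.Poincare φ)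
  {P : (Limits.pullback A.hom At.hom).Modules} (hP : PicF.IsInvertible P) (hQ : Q.x.1 = PicF.cl P)
  {L L' : A.left.Modules} (hL : PicF.IsInvertible L) (hL' : Nonempty (CohB1.tensorMod L L' ≅ Coh.structureModule A.left))
  {Λ : (PicF.XT A.hom A).Modules}
  (hΛ : Nonempty (Λ ≅ CohB1.tensorMod (CohB1.tensorMod ((Scheme.Modules.pullback μ[A].left).obj L)
    ((Scheme.Modules.pullback (fst A A).left).obj L')) ((Scheme.Modules.pullback (snd A A).left).obj L')))
  (hΛ0 : AbDual.IsPicZeroCl A.hom A (PicF.cl Λ))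

include hA hP hQ hL hL' hΛ hΛ0 in
/-- the pull back of the Poincaré bundle along the polarisation map, twisted by `L` -/
theorem nonempty_iso_phi :
    Nonempty (CohB1.tensorMod ((Scheme.Modules.pullback (Limits.pullback.fst A.hom A.hom)).obj L)
        ((Scheme.Modules.pullback (A ◁ φ A (PicF.cl Λ)).left).obj P) ≅
      CohB1.tensorMod ((Scheme.Modules.pullback (shear A).hom.left).obj
          ((Scheme.Modules.pullback (Limits.pullback.fst A.hom A.hom)).obj L))
        ((Scheme.Modules.pullback (Limits.pullback.snd A.hom A.hom)).obj L')) := by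
  obtain ⟨eL⟩ := hL'
  have hL'i : PicF.IsInvertible L' := InvTensor.isInvertible L' L (TMul.commIso L' L ≪≫ eL)
  let c := PicGrp.cls L hL
  have hinv : PicGrp.cls L' hL'i = c⁻¹ := by
    refine eq_inv_of_mul_eq_one_right ?_
    exact (PicGrp.cls_eq_one_iff _).2 ⟨eL⟩ |> fun h => (W7Cube.pmul_cls hL hL'i).trans h
  obtain ⟨eΛ⟩ := hΛ
  have hR : PicF.IsInvertible (CohB1.tensorMod (CohB1.tensorMod ((Scheme.Modules.pullback μ[A].left).obj L)
      ((Scheme.Modules.pullback (fst A A).left).obj L')) ((Scheme.Modules.pullback (snd A A).left).obj L')) :=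
    TMul.isInvertible_tensorMod (TMul.isInvertible_tensorMod (PicLoc.isInvertible_pullback _ hL)
      (PicLoc.isInvertible_pullback _ hL'i)) (PicLoc.isInvertible_pullback _ hL'i)
  have hΛi : PicF.IsInvertible Λ := ParaFLib.isInvertible_of_iso eΛ.symm hR
  let l := φ A (PicF.cl Λ)
  have hcl : PicGrp.cls (Y := (A ⊗ A).left) Λ hΛi =
      pc c (fst A A * snd A A) * (pc c (fst A A))⁻¹ * (pc c (snd A A))⁻¹ := by
    rw [← MonObj.mul_eq_mul]
    unfold pc
    rw [← map_inv, ← map_inv, ← hinv, pull_cls, pull_cls, pull_cls]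
    exact (PicGrp.cls_eq_cls_iff hΛi hR).2 ⟨eΛ⟩
  have hr : val (PicGrp.cls (Y := (A ⊗ A).left) Λ hΛi) 1 (𝟙 A) = 1 := by
    rw [hcl]
    change pull _ _ = 1
    rw [map_mul, map_mul, map_inv, map_inv, pull_pc, pull_pc, pull_pc, MonObj.comp_mul, lift_fst, lift_snd,
      _root_.one_mul, pc_one, inv_one, _root_.mul_one, mul_inv_cancel]
  have hl : PicGrp.cls (Y := (A ⊗ A).left) Λ hΛi = pull (A ◁ l).left Q.x :=
    (Q.eq_cls hA (T := A) hΛ0 hr).trans ((Q.cls_eq _).trans
      (congrArg (fun m => pull m Q.x) (AgSymm.XTmap_eq (A := A) l)))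
  have e : pull (fst A A).left c * pull (A ◁ l).left Q.x =
      pull (shear A).hom.left (pull (fst A A).left c) * pull (snd A A).left (PicGrp.cls L' hL'i) := by
    rw [← hl, hcl, hinv, pull_pull, map_inv]
    change pc c (fst A A) * _ = pc c ((shear A).hom ≫ fst A A) * (pc c (snd A A))⁻¹
    rw [show (shear A).hom ≫ fst A A = fst A A * snd A A from lift_fst _ _, ← _root_.mul_assoc,
      mul_inv_cancel_comm_assoc]
  rw [show Q.x = PicGrp.cls (Y := (A ⊗ At).left) P hP from Subtype.ext hQ, pull_cls, pull_cls, pull_cls,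
    pull_cls] at e
  exact (PicGrp.cls_eq_cls_iff (TMul.isInvertible_tensorMod (PicLoc.isInvertible_pullback _ hL)
    (PicLoc.isInvertible_pullback _ hP)) (TMul.isInvertible_tensorMod
      (PicLoc.isInvertible_pullback _ (PicLoc.isInvertible_pullback _ hL))
      (PicLoc.isInvertible_pullback _ hL'i))).1 e

include hA hP hQ hL hL' hΛ hΛ0 in
/-- **the transform of a line bundle pulled back along its polarisation map** -/
theorem nonempty_pull_phi [DCoh.HasLpull (Limits.pullback.fst A.hom At.hom)] [DCoh.HasLTensorMod P]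
    [DCoh.HasRpush (Limits.pullback.snd A.hom At.hom)] [DCoh.HasLpull (φ A (PicF.cl Λ)).left] [DCoh.HasRpush A.hom]
    [DCoh.HasLpull A.hom] [DCoh.HasLTensorMod L'] [IsProper At.hom] [Smooth At.hom] :
    Nonempty ((DCoh.Lpull (φ A (PicF.cl Λ)).left).obj ((DCoh.Lpull (Limits.pullback.fst A.hom At.hom) ⋙
        DCoh.LTensorMod P ⋙ DCoh.Rpush (Limits.pullback.snd A.hom At.hom)).obj (DCoh.inD A.left L)) ≅
      (DCoh.LTensorMod L').obj ((DCoh.Lpull A.hom).obj ((DCoh.Rpush A.hom).obj (DCoh.inD A.left L)))) := by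
  obtain ⟨eκ⟩ := nonempty_iso_phi hA Q hP hQ hL hL' hΛ hΛ0
  have hL'i : PicF.IsInvertible L' := InvTensor.isInvertible L' L (TMul.commIso L' L ≪≫ hL'.some)
  let l := φ A (PicF.cl Λ)
  let p₁ := Limits.pullback.fst A.hom At.hom
  let p₂ := Limits.pullback.snd A.hom At.hom
  let q₁ := Limits.pullback.fst A.hom A.hom
  let q₂ := Limits.pullback.snd A.hom A.hom
  let g : Limits.pullback A.hom A.hom ⟶ Limits.pullback A.hom At.hom := (A ◁ l).left
  let τ : Limits.pullback A.hom A.hom ⟶ Limits.pullback A.hom A.hom := (shear A).hom.left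
  let M := (Scheme.Modules.pullback q₁).obj L
  let N' := (Scheme.Modules.pullback q₂).obj L'
  have hM : PicF.IsInvertible M := PicLoc.isInvertible_pullback q₁ hL
  have hτM : PicF.IsInvertible ((Scheme.Modules.pullback τ).obj M) := PicLoc.isInvertible_pullback τ hM
  haveI := KFlat.hasLpull g
  haveI := KFlat.hasLpull q₁
  haveI := KFlat.hasLpull q₂
  haveI := KFlat.hasLpull τ
  haveI := KFlat.hasLpull (𝟙 A.left)
  haveI := DerPush.hasRpush_sch q₂
  haveI := KFlat.hasLTensorMod ((Scheme.Modules.pullback g).obj P)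
  haveI := KFlat.hasLTensorMod N'
  haveI := KFlat.hasLTensorCx (TorBC.sg L')
  haveI := KFlat.hasLTensorCx (TorBC.sg N')
  -- base change along the polarisation map
  have hE : DCoh.IsQCohD ((DCoh.LTensorMod P).obj ((DCoh.Lpull p₁).obj (DCoh.inD A.left L))) :=
    isQCohD_ltmod hP _ (DQCoh.isQCohD_Lpull p₁ _ (isQCohD_inD_invertible hL))
  obtain ⟨b₁⟩ := nonempty_bcNat (g' := g) (isPullback_whiskerLeft (A := A) l) (Or.inr (inferInstance : Flat p₂))
  obtain ⟨eT⟩ := nonempty_ltmod_lpull g hP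
  obtain ⟨eS⟩ := nonempty_lpull_square
    (show g ≫ p₁ = q₁ ≫ 𝟙 A.left from (congrArg (fun f => f.left) (whiskerLeft_fst A l)).trans
      (Category.comp_id _).symm)
  obtain ⟨e₀⟩ := nonempty_lpull_id A.left
  obtain ⟨eM⟩ := nonempty_lpull_inD q₁ hL
  obtain ⟨eP⟩ := nonempty_ltmod_inD hM ((Scheme.Modules.pullback g).obj P)
  obtain ⟨eN⟩ := nonempty_ltmod_inD hτM N'
  let E₁ : (DCoh.Lpull g).obj ((DCoh.LTensorMod P).obj ((DCoh.Lpull p₁).obj (DCoh.inD A.left L))) ≅
      (DCoh.LTensorMod N').obj (DCoh.inD _ ((Scheme.Modules.pullback τ).obj M)) :=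
    eT.app _ ≪≫ (DCoh.LTensorMod _).mapIso (eS.app _ ≪≫ (DCoh.Lpull q₁).mapIso (e₀.app _) ≪≫ eM) ≪≫ eP ≪≫
      inDMap eκ ≪≫ eN.symm
  -- the projection formula
  obtain ⟨sN⟩ := nonempty_lpull_sg q₂ hL'i
  obtain ⟨eQ⟩ := nonempty_projNat q₂ (TorBC.sg L') (isQCohD_sg_invertible hL'i) (TorBC.sg N') sN
  obtain ⟨lN⟩ := nonempty_ltmod L'
  obtain ⟨lN'⟩ := nonempty_ltmod N'
  let E₂ : (DCoh.Rpush q₂).obj ((DCoh.LTensorMod N').obj (DCoh.inD _ ((Scheme.Modules.pullback τ).obj M))) ≅
      (DCoh.LTensorMod L').obj ((DCoh.Rpush q₂).obj (DCoh.inD _ ((Scheme.Modules.pullback τ).obj M))) :=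
    (DCoh.Rpush q₂).mapIso (lN'.app _) ≪≫ (eQ.app ⟨_, isQCohD_inD_invertible hτM⟩).symm ≪≫ (lN.app _).symm
  -- the shear
  obtain ⟨b₂⟩ := nonempty_bcNat (g' := τ) (isPullback_shear A) (Or.inr (inferInstance : Flat q₂))
  obtain ⟨eτ⟩ := nonempty_lpull_inD τ hM
  let E₃ : (DCoh.Rpush q₂).obj (DCoh.inD _ ((Scheme.Modules.pullback τ).obj M)) ≅
      (DCoh.Rpush q₂).obj (DCoh.inD _ M) :=
    (DCoh.Rpush q₂).mapIso eτ.symm ≪≫ (b₂.app ⟨_, isQCohD_inD_invertible hM⟩).symm ≪≫ e₀.app _
  -- flat base change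
  obtain ⟨b₃⟩ := nonempty_bcNat (IsPullback.of_hasPullback A.hom A.hom) (Or.inr (inferInstance : Flat A.hom))
  let E₄ : (DCoh.Rpush q₂).obj (DCoh.inD _ M) ≅ (DCoh.Lpull A.hom).obj ((DCoh.Rpush A.hom).obj (DCoh.inD A.left L)) :=
    (DCoh.Rpush q₂).mapIso eM.symm ≪≫ (b₃.app ⟨_, isQCohD_inD_invertible hL⟩).symm
  exact ⟨b₁.app ⟨_, hE⟩ ≪≫ (DCoh.Rpush q₂).mapIso E₁ ≪≫ E₂ ≪≫ (DCoh.LTensorMod L').mapIso (E₃ ≪≫ E₄)⟩

end Groth.Agent.FMTool
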