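import Groth.Agent.FMTool.Basic
import Groth.Agent.DQCoh.Tensor

/-!
Associativity of the derived tensor product, as functors.
-/

set_option autoImplicit false
set_option backward.isDefEq.respectTransparency false
set_option backward.isDefEq.respectTransparency.types false
set_option linter.style.haveILetI false
set_option linter.unusedSectionVars false

universe u

open CategoryTheory Limits AlgebraicGeometry HomologicalComplex

attribute [local instance] HasDerivedCategory.standard

namespace Groth.Agent.FMTool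

open Groth.Agent.KFlat Groth.Agent.ProjForm

variable {X Y : Scheme.{u}}

/-- `(- ⊗^L K) ⊗^L M = - ⊗^L (K ⊗^L M)` -/
theorem nonempty_ltensor_comp (K M N : CochainComplex X.Modules ℤ) [DCoh.HasLTensorCx K] [DCoh.HasLTensorCx M]
    [DCoh.HasLTensorCx N] (eN : DCoh.toD X N ≅ (DCoh.LTensorCx M).obj (DCoh.toD X K)) :
    Nonempty (DCoh.LTensorCx K ⋙ DCoh.LTensorCx M ≅ DCoh.LTensorCx N) := by
  let P := (resF X).obj K
  let R := (resF X).obj M
  haveI := KFlat.hasLTensorCx P
  haveI := KFlat.hasLTensorCx R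
  haveI := KFlat.hasLTensorCx ((DCoh.tensorCx.obj P).obj R)
  let qK : DCoh.toD X P ≅ DCoh.toD X K := (rQ X).app K
  let qM : DCoh.toD X R ≅ DCoh.toD X M := (rQ X).app M
  obtain ⟨a⟩ := nonempty_ltensor_congr qK
  obtain ⟨b⟩ := nonempty_ltensor_congr qM
  obtain ⟨c⟩ := nonempty_ltensor_congr ((ltIso R (isKFlat_resF K)).symm ≪≫
    (DCoh.LTensorCx R).mapIso qK ≪≫ b.app _ ≪≫ eN.symm :
    DCoh.toD X ((DCoh.tensorCx.obj P).obj R) ≅ DCoh.toD X N)
  exact ⟨Functor.isoWhiskerRight a.symm _ ≪≫ Functor.isoWhiskerLeft _ b.symm ≪≫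
    ltCompIso P (isKFlat_resF M) ≪≫ c⟩

/-- a representative of an object of the derived category -/
lemma exists_rep (E : DCoh.D X) : ∃ K : CochainComplex X.Modules ℤ, Nonempty (DCoh.toD X K ≅ E) := by
  obtain ⟨P, -, -, e⟩ := KFlat.exists_isKFlat_rep E
  exact ⟨P, e⟩

end Groth.Agent.FMTool
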