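import Groth.Agent.FMTool.Proj2
import Groth.Agent.FMTool.Assoc
import Groth.Agent.HTorBC.KunnMain
import Groth.Prelude.Def_DualFM

/-!
Composition of Fourier–Mukai transforms.
-/

set_option autoImplicit false
set_option backward.isDefEq.respectTransparency false
set_option backward.isDefEq.respectTransparency.types false
set_option linter.style.haveILetI false
set_option linter.unusedSectionVars false

universe u

open CategoryTheory Limits AlgebraicGeometry HomologicalComplex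

attribute [local instance] HasDerivedCategory.standard

namespace Groth.Agent.FMTool

variable {S X Y Z : Scheme.{u}} (a : X ⟶ S) (b : Y ⟶ S) (c : Z ⟶ S)

lemma qcqs_p13 [QuasiCompact a] [QuasiSeparated a] [QuasiCompact b] [QuasiSeparated b] [QuasiCompact c]
    [QuasiSeparated c] : QuasiCompact (FMK.p13 a b c) ∧ QuasiSeparated (FMK.p13 a b c) := by
  haveI : QuasiCompact (pullback.fst a b) :=
    MorphismProperty.of_isPullback (IsPullback.of_hasPullback a b).flip ‹QuasiCompact b›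
  haveI : QuasiSeparated (pullback.fst a b) :=
    MorphismProperty.of_isPullback (IsPullback.of_hasPullback a b).flip ‹QuasiSeparated b›
  haveI : QuasiCompact (pullback.fst b c) :=
    MorphismProperty.of_isPullback (IsPullback.of_hasPullback b c).flip ‹QuasiCompact c›
  haveI : QuasiSeparated (pullback.fst b c) :=
    MorphismProperty.of_isPullback (IsPullback.of_hasPullback b c).flip ‹QuasiSeparated c›
  haveI : QuasiCompact (FMK.p12 a b c) :=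
    MorphismProperty.of_isPullback (IsPullback.of_hasPullback (pullback.snd a b) (pullback.fst b c)).flip
      ‹QuasiCompact (pullback.fst b c)›
  haveI : QuasiSeparated (FMK.p12 a b c) :=
    MorphismProperty.of_isPullback (IsPullback.of_hasPullback (pullback.snd a b) (pullback.fst b c)).flip
      ‹QuasiSeparated (pullback.fst b c)›
  haveI : QuasiSeparated (pullback.fst a c) :=
    MorphismProperty.of_isPullback (IsPullback.of_hasPullback a c).flip ‹QuasiSeparated c›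
  haveI : QuasiCompact (FMK.p13 a b c ≫ pullback.fst a c) := by
    rw [FMK.p13_fst]; infer_instance
  haveI : QuasiSeparated (FMK.p13 a b c ≫ pullback.fst a c) := by
    rw [FMK.p13_fst]; infer_instance
  exact ⟨QuasiCompact.of_comp (FMK.p13 a b c) (pullback.fst a c),
    QuasiSeparated.of_comp (FMK.p13 a b c) (pullback.fst a c)⟩

/-- **composition of Fourier–Mukai transforms** -/
theorem nonempty_phi_comp [QuasiCompact a] [QuasiSeparated a] [QuasiCompact b] [QuasiSeparated b] [QuasiCompact c]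
    [QuasiSeparated c] (hflat : Flat a ∨ Flat c) (K : CochainComplex (pullback a b).Modules ℤ)
    (M : CochainComplex (pullback b c).Modules ℤ) (hK : DCoh.IsQCohD (DCoh.toD _ K)) (hM : DCoh.IsQCohD (DCoh.toD _ M))
    [DCoh.HasLpull (pullback.fst a b)] [DCoh.HasLTensorCx K] [DCoh.HasRpush (pullback.snd a b)]
    [DCoh.HasLpull (pullback.fst b c)] [DCoh.HasLTensorCx M] [DCoh.HasRpush (pullback.snd b c)]
    [DCoh.HasLpull (FMK.p12 a b c)] [DCoh.HasLpull (FMK.p23 a b c)] [DCoh.HasRpush (FMK.p13 a b c)]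
    [DCoh.HasLpull (pullback.fst a c)] [DCoh.HasRpush (pullback.snd a c)]
    (L : CochainComplex (FMK.T a b c).Modules ℤ) [DCoh.HasLTensorCx L]
    (hL : Nonempty (DCoh.toD _ L ≅ (DCoh.Lpull (FMK.p23 a b c)).obj (DCoh.toD _ M)))
    (N : CochainComplex (pullback a c).Modules ℤ) [DCoh.HasLTensorCx N]
    (hN : Nonempty (DCoh.toD _ N ≅ FMK.conv a b c K L)) :
    Nonempty (ObjectProperty.ι (DCoh.IsQCohD (X := X)) ⋙ FMK.phi a c N ≅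
      ObjectProperty.ι (DCoh.IsQCohD (X := X)) ⋙ FMK.phi a b K ⋙ FMK.phi b c M) := by
  obtain ⟨eL⟩ := hL
  obtain ⟨eN⟩ := hN
  let x₁ := pullback.fst a b
  let y₁ := pullback.snd a b
  let y₂ := pullback.fst b c
  let z₂ := pullback.snd b c
  let x₃ := pullback.fst a c
  let z₃ := pullback.snd a c
  let p₁₂ := FMK.p12 a b c
  let p₂₃ := FMK.p23 a b c
  let p₁₃ := FMK.p13 a b c
  have H : IsPullback p₁₂ p₂₃ y₁ y₂ := IsPullback.of_hasPullback y₁ y₂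
  haveI : QuasiCompact y₁ := MorphismProperty.of_isPullback (IsPullback.of_hasPullback a b) ‹QuasiCompact a›
  haveI : QuasiSeparated y₁ := MorphismProperty.of_isPullback (IsPullback.of_hasPullback a b) ‹QuasiSeparated a›
  haveI : QuasiCompact p₂₃ := MorphismProperty.of_isPullback H ‹QuasiCompact y₁›
  haveI : QuasiSeparated p₂₃ := MorphismProperty.of_isPullback H ‹QuasiSeparated y₁›
  haveI : QuasiCompact p₁₃ := (qcqs_p13 a b c).1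
  haveI : QuasiSeparated p₁₃ := (qcqs_p13 a b c).2
  have hflat' : Flat y₂ ∨ Flat y₁ := hflat.symm.imp
    (fun h => MorphismProperty.of_isPullback (IsPullback.of_hasPullback b c).flip h)
    (fun h => MorphismProperty.of_isPullback (IsPullback.of_hasPullback a b) h)
  haveI := DerPush.hasRpush_sch p₂₃
  haveI : DCoh.HasLpull p₁₃ := KFlat.hasLpull p₁₃
  haveI : DCoh.HasRpush (p₂₃ ≫ z₂) := DerPush.hasRpush_sch _
  haveI : DCoh.HasRpush (p₁₃ ≫ z₃) := DerPush.hasRpush_sch _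
  obtain ⟨K₁, ⟨eK₁⟩⟩ := exists_rep ((DCoh.Lpull p₁₂).obj (DCoh.toD _ K))
  haveI := KFlat.hasLTensorCx K₁
  obtain ⟨W, ⟨eW⟩⟩ := exists_rep ((DCoh.LTensorCx L).obj (DCoh.toD _ K₁))
  haveI := KFlat.hasLTensorCx W
  have hLq : DCoh.IsQCohD (DCoh.toD _ L) :=
    ObjectProperty.prop_of_iso (DCoh.IsQCohD (X := FMK.T a b c)) eL.symm (DQCoh.isQCohD_Lpull p₂₃ _ hM)
  have hK₁q : DCoh.IsQCohD (DCoh.toD _ K₁) :=
    ObjectProperty.prop_of_iso (DCoh.IsQCohD (X := FMK.T a b c)) eK₁.symm (DQCoh.isQCohD_Lpull p₁₂ _ hK)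
  have hWq : DCoh.IsQCohD (DCoh.toD _ W) :=
    ObjectProperty.prop_of_iso (DCoh.IsQCohD (X := FMK.T a b c)) eW.symm (DQCoh.isQCohD_LTensorCx L hLq _ hK₁q)
  obtain ⟨eBC⟩ := nonempty_bcNat H hflat'
  obtain ⟨eP⟩ := nonempty_projNat p₂₃ M hM L eL
  obtain ⟨eT⟩ := nonempty_lpull_ltensor p₁₂ K K₁ eK₁
  obtain ⟨eS⟩ := nonempty_lpull_square (show p₁₂ ≫ x₁ = p₁₃ ≫ x₃ from (FMK.p13_fst a b c).symm)
  obtain ⟨eA⟩ := nonempty_ltensor_comp K₁ L W eW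
  obtain ⟨eP₂⟩ := nonempty_projNat₂ p₁₃ W hWq N
    (eN ≪≫ (DCoh.Rpush p₁₃).mapIso ((DCoh.LTensorCx L).mapIso eK₁.symm ≪≫ eW.symm))
  obtain ⟨r₁⟩ := HTorBC.nonempty_rpush_comp p₂₃ z₂
  obtain ⟨r₂⟩ := HTorBC.nonempty_rpush_comp p₁₃ z₃
  obtain ⟨r₃⟩ := HTorBC.nonempty_rpush_congr (show p₁₃ ≫ z₃ = p₂₃ ≫ z₂ from FMK.p13_snd a b c)
  let G := DCoh.Lpull x₁ ⋙ DCoh.LTensorCx K
  have hG : ∀ E, DCoh.IsQCohD E → DCoh.IsQCohD (G.obj E) := fun E hE =>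
    DQCoh.isQCohD_LTensorCx K hK _ (DQCoh.isQCohD_Lpull x₁ E hE)
  have hGp : ∀ E, DCoh.IsQCohD E → DCoh.IsQCohD ((G ⋙ DCoh.Lpull p₁₂).obj E) := fun E hE =>
    DQCoh.isQCohD_Lpull p₁₂ _ (hG E hE)
  let ι := ObjectProperty.ι (DCoh.IsQCohD (X := X))
  -- `Φ_M ∘ Φ_K` on the triple product
  let e₁ : ι ⋙ FMK.phi a b K ⋙ FMK.phi b c M ≅
      (ι ⋙ G ⋙ DCoh.Rpush y₁ ⋙ DCoh.Lpull y₂) ⋙ (DCoh.LTensorCx M ⋙ DCoh.Rpush z₂) := Iso.refl _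
  let e₂ : (ι ⋙ G ⋙ DCoh.Rpush y₁ ⋙ DCoh.Lpull y₂) ⋙ (DCoh.LTensorCx M ⋙ DCoh.Rpush z₂) ≅
      (ι ⋙ (G ⋙ DCoh.Lpull p₁₂) ⋙ DCoh.Rpush p₂₃ ⋙ DCoh.LTensorCx M) ⋙ DCoh.Rpush z₂ :=
    Functor.isoWhiskerRight (restrictNat hG eBC) _
  let e₃ : (ι ⋙ (G ⋙ DCoh.Lpull p₁₂) ⋙ DCoh.Rpush p₂₃ ⋙ DCoh.LTensorCx M) ⋙ DCoh.Rpush z₂ ≅
      (ι ⋙ (G ⋙ DCoh.Lpull p₁₂) ⋙ DCoh.LTensorCx L ⋙ DCoh.Rpush p₂₃) ⋙ DCoh.Rpush z₂ :=
    Functor.isoWhiskerRight (restrictNat hGp eP) _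
  let f₁ : G ⋙ DCoh.Lpull p₁₂ ⋙ DCoh.LTensorCx L ≅ DCoh.Lpull x₃ ⋙ DCoh.Lpull p₁₃ ⋙ DCoh.LTensorCx W :=
    (Functor.associator _ _ _).symm ≪≫ Functor.isoWhiskerRight (Functor.associator _ _ _ ≪≫
      Functor.isoWhiskerLeft _ eT ≪≫ (Functor.associator _ _ _).symm ≪≫ Functor.isoWhiskerRight eS _) _ ≪≫
      Functor.associator _ _ _ ≪≫ Functor.isoWhiskerLeft _ eA ≪≫ Functor.associator _ _ _
  let e₄ : (ι ⋙ (G ⋙ DCoh.Lpull p₁₂) ⋙ DCoh.LTensorCx L ⋙ DCoh.Rpush p₂₃) ⋙ DCoh.Rpush z₂ ≅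
      (ι ⋙ DCoh.Lpull x₃ ⋙ DCoh.Lpull p₁₃ ⋙ DCoh.LTensorCx W) ⋙ (DCoh.Rpush p₂₃ ⋙ DCoh.Rpush z₂) :=
    Functor.isoWhiskerRight (Functor.isoWhiskerLeft ι f₁) (DCoh.Rpush p₂₃ ⋙ DCoh.Rpush z₂)
  let e₅ : (ι ⋙ DCoh.Lpull x₃ ⋙ DCoh.Lpull p₁₃ ⋙ DCoh.LTensorCx W) ⋙ (DCoh.Rpush p₂₃ ⋙ DCoh.Rpush z₂) ≅
      (ι ⋙ DCoh.Lpull x₃ ⋙ DCoh.Lpull p₁₃ ⋙ DCoh.LTensorCx W ⋙ DCoh.Rpush p₁₃) ⋙ DCoh.Rpush z₃ :=
    Functor.isoWhiskerLeft (ι ⋙ DCoh.Lpull x₃ ⋙ DCoh.Lpull p₁₃ ⋙ DCoh.LTensorCx W) (r₁ ≪≫ r₃.symm ≪≫ r₂.symm)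
  have hx₃ : ∀ E, DCoh.IsQCohD E → DCoh.IsQCohD ((DCoh.Lpull x₃).obj E) := fun E hE =>
    DQCoh.isQCohD_Lpull x₃ E hE
  let e₆ : (ι ⋙ DCoh.Lpull x₃ ⋙ DCoh.Lpull p₁₃ ⋙ DCoh.LTensorCx W ⋙ DCoh.Rpush p₁₃) ⋙ DCoh.Rpush z₃ ≅
      ι ⋙ FMK.phi a c N :=
    Functor.isoWhiskerRight (restrictNat hx₃ eP₂).symm _
  exact ⟨(e₁ ≪≫ e₂ ≪≫ e₃ ≪≫ e₄ ≪≫ e₅ ≪≫ e₆).symm⟩

end Groth.Agent.FMTool
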