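import Groth.Agent.FMTool.FMBase
import Groth.Agent.FMTool.FMComp
import Groth.Agent.RelPCS.FlatBase
import Groth.Agent.PerfGen.Compact
import Mathlib.AlgebraicGeometry.Morphisms.Smooth
import Mathlib.AlgebraicGeometry.Morphisms.Proper

/-!
Base change of composite kernels.
-/

set_option autoImplicit false
set_option backward.isDefEq.respectTransparency false
set_option backward.isDefEq.respectTransparency.types false
set_option linter.style.haveILetI false
set_option linter.unusedSectionVars false

universe u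

open CategoryTheory Limits AlgebraicGeometry HomologicalComplex

attribute [local instance] HasDerivedCategory.standard

namespace Groth.Agent.FMTool

open Groth.Agent.KFlat Groth.Agent.ProjForm

/-- termwise inverse images along flat morphisms are derived -/
theorem nonempty_lpull_flat {X Y : Scheme.{u}} (p : X ⟶ Y) [Flat p] [DCoh.HasLpull p]
    (M : CochainComplex Y.Modules ℤ) :
    Nonempty (DCoh.toD X ((qC p).obj M) ≅ (DCoh.Lpull p).obj (DCoh.toD Y M)) := by
  haveI := RelPCS.preservesFiniteLimits_pullback p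
  haveI := (Scheme.Modules.pullbackPushforwardAdjunction p).leftAdjoint_preservesColimits.{0, 0}
  haveI : (Scheme.Modules.pullback p).PreservesHomology := inferInstance
  haveI : QuasiIso ((qC p).map ((resψ Y).app M)) := HomologicalComplex.quasiIso_map_of_preservesHomology _ _
  exact ⟨(asIso (DerivedCategory.Q.map ((qC p).map ((resψ Y).app M)))).symm ≪≫
    (ProjForm.lpullIso p (isKFlat_resF M)).symm ≪≫ (DCoh.Lpull p).mapIso ((rQ Y).app M)⟩

variable {S S' X Y Z : Scheme.{u}} (a : X ⟶ S) (b : Y ⟶ S) (c : Z ⟶ S) (g : S' ⟶ S)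

/-- the square of first projections is cartesian -/
lemma isPullback_bcPair_fst :
    IsPullback (bcPair b c g) (pullback.fst (pullback.snd b g) (pullback.snd c g)) (pullback.fst b c)
      (pullback.fst b g) := by
  refine IsPullback.of_right ?_ (by simp [bcPair]) (IsPullback.of_hasPullback b c).flip
  have h := (IsPullback.of_hasPullback (pullback.snd b g) (pullback.snd c g)).flip.paste_horiz
    (IsPullback.of_hasPullback c g)
  rw [← pullback.condition] at h
  have e : bcPair b c g ≫ pullback.snd b c =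
      pullback.snd (pullback.snd b g) (pullback.snd c g) ≫ pullback.fst c g := by simp [bcPair]
  rw [e]
  exact h

/-- `T_{S'} ⟶ T` -/
noncomputable def bcTriple : FMK.T (pullback.snd a g) (pullback.snd b g) (pullback.snd c g) ⟶ FMK.T a b c :=
  pullback.lift
    (FMK.p12 (pullback.snd a g) (pullback.snd b g) (pullback.snd c g) ≫ bcPair a b g)
    (FMK.p23 (pullback.snd a g) (pullback.snd b g) (pullback.snd c g) ≫ bcPair b c g) (by
      rw [Category.assoc, Category.assoc, (isPullback_bcPair a b g).w, (isPullback_bcPair_fst b c g).w,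
        ← Category.assoc, ← Category.assoc]
      exact congrArg (· ≫ _) pullback.condition)

lemma bcTriple_p12 : bcTriple a b c g ≫ FMK.p12 a b c =
    FMK.p12 (pullback.snd a g) (pullback.snd b g) (pullback.snd c g) ≫ bcPair a b g :=
  pullback.lift_fst _ _ _

lemma bcTriple_p23 : bcTriple a b c g ≫ FMK.p23 a b c =
    FMK.p23 (pullback.snd a g) (pullback.snd b g) (pullback.snd c g) ≫ bcPair b c g :=
  pullback.lift_snd _ _ _

/-- the square of outer projections is cartesian -/
lemma isPullback_bcTriple :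
    IsPullback (bcTriple a b c g) (FMK.p13 (pullback.snd a g) (pullback.snd b g) (pullback.snd c g))
      (FMK.p13 a b c) (bcPair a c g) := by
  let a' := pullback.snd a g
  let b' := pullback.snd b g
  let c' := pullback.snd c g
  have hp : bcTriple a b c g ≫ FMK.p13 a b c = FMK.p13 a' b' c' ≫ bcPair a c g := by
    have h1 : bcPair a b g ≫ pullback.fst a b = pullback.fst a' b' ≫ pullback.fst a g := pullback.lift_fst _ _ _
    have h2 : bcPair b c g ≫ pullback.snd b c = pullback.snd b' c' ≫ pullback.fst c g := pullback.lift_snd _ _ _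
    have h3 : bcPair a c g ≫ pullback.fst a c = pullback.fst a' c' ≫ pullback.fst a g := pullback.lift_fst _ _ _
    have h4 : bcPair a c g ≫ pullback.snd a c = pullback.snd a' c' ≫ pullback.fst c g := pullback.lift_snd _ _ _
    refine pullback.hom_ext ?_ ?_
    · rw [Category.assoc, Category.assoc, FMK.p13_fst, h3, FMK.p13_fst_assoc, reassoc_of% (bcTriple_p12 a b c g), h1]
    · rw [Category.assoc, Category.assoc, FMK.p13_snd, h4, FMK.p13_snd_assoc, reassoc_of% (bcTriple_p23 a b c g), h2]
  have hT : IsPullback (bcTriple a b c g) (FMK.p12 a' b' c') (FMK.p12 a b c) (bcPair a b g) := by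
    refine IsPullback.of_right ?_ (bcTriple_p12 a b c g)
      (IsPullback.of_hasPullback (pullback.snd a b) (pullback.fst b c)).flip
    have h := (IsPullback.of_hasPullback (pullback.snd a' b') (pullback.fst b' c')).flip.paste_horiz
      (isPullback_bcPair_fst b c g)
    rw [← (isPullback_bcPair a b g).w] at h
    rw [bcTriple_p23]
    exact h
  have hb : IsPullback (pullback.fst b g) b' b g := IsPullback.of_hasPullback b g
  have hc : IsPullback (pullback.fst c g) c' c g := IsPullback.of_hasPullback c g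
  have outer := (hT.paste_vert (isPullback_bcPair a b g)).paste_vert hb
  have bot : IsPullback (bcPair a c g) (pullback.snd a' c' ≫ c') (pullback.snd a c ≫ c) g :=
    (isPullback_bcPair a c g).paste_vert hc
  have e : ∀ {R A B C : Scheme.{u}} (a : A ⟶ R) (b : B ⟶ R) (c : C ⟶ R),
      (FMK.p12 a b c ≫ pullback.snd a b) ≫ b = FMK.p13 a b c ≫ pullback.snd a c ≫ c := fun a b c => by
    rw [FMK.p13_snd_assoc]
    refine (congrArg (· ≫ b) pullback.condition).trans ?_
    rw [Category.assoc]
    exact congrArg (_ ≫ ·) pullback.condition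
  rw [e a b c, e a' b' c'] at outer
  exact IsPullback.of_bot outer hp bot

/-- **composite kernels commute with base change** -/
theorem nonempty_conv_bc [Smooth a] [IsProper a] [Smooth b] [IsProper b] [Smooth c] [IsProper c]
    (K : CochainComplex (pullback a b).Modules ℤ) (M : CochainComplex (pullback b c).Modules ℤ)
    (hK : DCoh.IsPerfect (DCoh.toD _ K)) (hM : DCoh.IsPerfect (DCoh.toD _ M))
    [DCoh.HasLpull (FMK.p12 a b c)] [DCoh.HasLTensorCx ((qC (FMK.p23 a b c)).obj M)]
    [DCoh.HasRpush (FMK.p13 a b c)] [DCoh.HasLpull (bcPair a b g)] [DCoh.HasLpull (bcPair b c g)]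
    [DCoh.HasLpull (bcPair a c g)]
    (K₁ : CochainComplex (pullback (pullback.snd a g) (pullback.snd b g)).Modules ℤ)
    (hK₁ : Nonempty (DCoh.toD _ K₁ ≅ (DCoh.Lpull (bcPair a b g)).obj (DCoh.toD _ K)))
    (M₁ : CochainComplex (pullback (pullback.snd b g) (pullback.snd c g)).Modules ℤ)
    (hM₁ : Nonempty (DCoh.toD _ M₁ ≅ (DCoh.Lpull (bcPair b c g)).obj (DCoh.toD _ M)))
    [DCoh.HasLpull (FMK.p12 (pullback.snd a g) (pullback.snd b g) (pullback.snd c g))]
    [DCoh.HasLTensorCx ((qC (FMK.p23 (pullback.snd a g) (pullback.snd b g) (pullback.snd c g))).obj M₁)]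
    [DCoh.HasRpush (FMK.p13 (pullback.snd a g) (pullback.snd b g) (pullback.snd c g))] :
    Nonempty ((DCoh.Lpull (bcPair a c g)).obj (FMK.conv a b c K ((qC (FMK.p23 a b c)).obj M)) ≅
      FMK.conv (pullback.snd a g) (pullback.snd b g) (pullback.snd c g) K₁
        ((qC (FMK.p23 (pullback.snd a g) (pullback.snd b g) (pullback.snd c g))).obj M₁)) := by
  obtain ⟨eK₁⟩ := hK₁
  obtain ⟨eM₁⟩ := hM₁
  let a' := pullback.snd a g
  let b' := pullback.snd b g
  let c' := pullback.snd c g
  let p₁₃ := FMK.p13 a b c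
  haveI : QuasiCompact p₁₃ := (qcqs_p13 a b c).1
  haveI : QuasiSeparated p₁₃ := (qcqs_p13 a b c).2
  haveI : Flat (pullback.snd a b) := MorphismProperty.of_isPullback (IsPullback.of_hasPullback a b) (inferInstance : Flat a)
  haveI : Flat (FMK.p23 a b c) := MorphismProperty.of_isPullback
    (IsPullback.of_hasPullback (pullback.snd a b) (pullback.fst b c)) ‹Flat (pullback.snd a b)›
  haveI : Flat a' := MorphismProperty.of_isPullback (IsPullback.of_hasPullback a g) (inferInstance : Flat a)
  haveI : Flat (pullback.snd a' b') := MorphismProperty.of_isPullback (IsPullback.of_hasPullback a' b') ‹Flat a'›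
  haveI : Flat (FMK.p23 a' b' c') := MorphismProperty.of_isPullback
    (IsPullback.of_hasPullback (pullback.snd a' b') (pullback.fst b' c')) ‹Flat (pullback.snd a' b')›
  haveI : Flat p₁₃ := by
    have hb : Flat b := inferInstance
    have h : IsPullback p₁₃ (FMK.p12 a b c ≫ pullback.snd a b) (pullback.fst a c ≫ a) b := by
      let y := FMK.p12 a b c ≫ pullback.snd a b
      refine ⟨⟨?_⟩, ⟨PullbackCone.IsLimit.mk _ (fun s => pullback.lift
        (pullback.lift (s.fst ≫ pullback.fst a c) s.snd (by rw [Category.assoc]; exact s.condition))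
        (pullback.lift s.snd (s.fst ≫ pullback.snd a c) (by
          rw [Category.assoc, ← pullback.condition, ← s.condition])) (by simp)) ?_ ?_ ?_⟩⟩
      · rw [FMK.p13_fst_assoc, Category.assoc]
        exact congrArg (_ ≫ ·) pullback.condition
      · intro s
        refine pullback.hom_ext ?_ ?_
        · simp [p₁₃]
        · simp [p₁₃]
      · intro s; simp [y]
      · intro s m h₁ h₂
        have k₁ : m ≫ FMK.p12 a b c ≫ pullback.fst a b = s.fst ≫ pullback.fst a c := by
          rw [← FMK.p13_fst, ← Category.assoc]; exact congrArg (· ≫ _) h₁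
        have k₂ : m ≫ FMK.p23 a b c ≫ pullback.snd b c = s.fst ≫ pullback.snd a c := by
          rw [← FMK.p13_snd, ← Category.assoc]; exact congrArg (· ≫ _) h₁
        have k₃ : m ≫ FMK.p23 a b c ≫ pullback.fst b c = s.snd :=
          (congrArg (m ≫ ·) pullback.condition.symm).trans h₂
        refine pullback.hom_ext (pullback.hom_ext ?_ ?_) (pullback.hom_ext ?_ ?_)
        · simpa using k₁
        · simpa using h₂
        · simpa using k₃
        · simpa using k₂
    exact MorphismProperty.of_isPullback h.flip hb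
  let P := bcTriple a b c g
  haveI := KFlat.hasLpull P
  haveI := KFlat.hasLpull (FMK.p23 a b c)
  haveI := KFlat.hasLpull (FMK.p23 a' b' c')
  let L := (qC (FMK.p23 a b c)).obj M
  let L₁ := (qC (FMK.p23 a' b' c')).obj M₁
  obtain ⟨eL⟩ := nonempty_lpull_flat (FMK.p23 a b c) M
  obtain ⟨eL₁⟩ := nonempty_lpull_flat (FMK.p23 a' b' c') M₁
  obtain ⟨eS₁⟩ := nonempty_lpull_square (bcTriple_p12 a b c g)
  obtain ⟨eS₂⟩ := nonempty_lpull_square (bcTriple_p23 a b c g)
  obtain ⟨eT⟩ := nonempty_lpull_ltensor P L L₁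
    (eL₁ ≪≫ (DCoh.Lpull _).mapIso eM₁ ≪≫ (eS₂.app _).symm ≪≫ (DCoh.Lpull P).mapIso eL.symm)
  obtain ⟨eBC⟩ := nonempty_bcNat (isPullback_bcTriple a b c g) (Or.inr ‹Flat p₁₃›)
  have hKq : DCoh.IsQCohD (DCoh.toD _ K) := PerfGen.isQCohD_of_isPerfect hK
  have hLq : DCoh.IsQCohD (DCoh.toD _ L) :=
    ObjectProperty.prop_of_iso (DCoh.IsQCohD (X := FMK.T a b c)) eL.symm
      (DQCoh.isQCohD_Lpull _ _ (PerfGen.isQCohD_of_isPerfect hM))
  let W := (DCoh.LTensorCx L).obj ((DCoh.Lpull (FMK.p12 a b c)).obj (DCoh.toD _ K))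
  have hW : DCoh.IsQCohD W := DQCoh.isQCohD_LTensorCx L hLq _ (DQCoh.isQCohD_Lpull _ _ hKq)
  exact ⟨eBC.app ⟨W, hW⟩ ≪≫ (DCoh.Rpush _).mapIso (eT.app _ ≪≫ (DCoh.LTensorCx L₁).mapIso
    (eS₁.app _ ≪≫ (DCoh.Lpull _).mapIso eK₁.symm))⟩

end Groth.Agent.FMTool
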