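import Groth.Agent.FMTool.Proj

/-!
The projection formula as an isomorphism of functors of the object on the base.
-/

set_option autoImplicit false
set_option backward.isDefEq.respectTransparency false
set_option backward.isDefEq.respectTransparency.types false
set_option linter.style.haveILetI false
set_option linter.unusedSectionVars false

universe u

open CategoryTheory Limits AlgebraicGeometry HomologicalComplex

attribute [local instance] HasDerivedCategory.standard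

namespace Groth.Agent.FMTool

open Groth.Agent.KFlat Groth.Agent.ProjForm Groth.Agent.TorBC

variable {X Y : Scheme.{u}}

/-- `A ⊗ Z = Z ⊗ A`, naturally in `A` -/
noncomputable def swapNat (Z : CochainComplex X.Modules ℤ) :
    (DCoh.tensorCx (X := X)).flip.obj Z ≅ DCoh.tensorCx.obj Z :=
  NatIso.ofComponents (fun A => swapIso (braid X.sheaf) A Z)
    fun a => RHomCx.swapIso_natural (braid X.sheaf) a (𝟙 Z)

/-- **projection formula**, natural on the base -/
theorem nonempty_projNat₂ (f : X ⟶ Y) [QuasiCompact f] [QuasiSeparated f] [DCoh.HasRpush f] [DCoh.HasLpull f]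
    (N₁ : CochainComplex X.Modules ℤ) (hN₁ : DCoh.IsQCohD (DCoh.toD X N₁)) [DCoh.HasLTensorCx N₁]
    (N : CochainComplex Y.Modules ℤ) (eN : DCoh.toD Y N ≅ (DCoh.Rpush f).obj (DCoh.toD X N₁))
    [DCoh.HasLTensorCx N] :
    Nonempty (ObjectProperty.ι (DCoh.IsQCohD (X := Y)) ⋙ DCoh.LTensorCx N ≅
      ObjectProperty.ι (DCoh.IsQCohD (X := Y)) ⋙ DCoh.Lpull f ⋙ DCoh.LTensorCx N₁ ⋙ DCoh.Rpush f) := by
  obtain ⟨I, s₀, hI, hs₀⟩ := DerPush.exists_kInj_sch N₁
  let Z := (pC f).obj I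
  haveI := KFlat.hasLTensorCx I
  haveI := KFlat.hasLTensorCx Z
  obtain ⟨a⟩ := nonempty_ltensor_congr (eN ≪≫ (DCoh.Rpush f).mapIso (asIso (DerivedCategory.Q.map s₀)) ≪≫
    (rpushIso f I).symm : DCoh.toD Y N ≅ DCoh.toD Y Z)
  obtain ⟨b⟩ := nonempty_ltensor_congr (asIso (DerivedCategory.Q.map s₀) : DCoh.toD X N₁ ≅ DCoh.toD X I)
  have hIq : ∀ i, Coh.IsQCoh (I.homology i) := fun i =>
    QC.isQCoh_of_iso (isoOfQuasiIsoAt s₀ i) (QC.isQCoh_of_iso (KFlat.hdIso N₁ i) (hN₁ i))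
  let R := resF Y
  let l₁ : Q₀ Y ⋙ DCoh.LTensorCx Z ≅ R ⋙ DCoh.tensorCx.obj Z ⋙ Q₀ Y :=
    ltQ Z ≪≫ Functor.isoWhiskerLeft R (Functor.isoWhiskerRight (swapNat Z) (Q₀ Y))
  let l₂ : Q₀ Y ⋙ DCoh.Lpull f ⋙ DCoh.LTensorCx I ⋙ DCoh.Rpush f ≅
      ((R ⋙ qC f) ⋙ DCoh.tensorCx.obj I ⋙ Q₀ X) ⋙ DCoh.Rpush f :=
    (Functor.associator _ _ _).symm ≪≫ (Functor.associator _ _ _).symm ≪≫ Functor.isoWhiskerRight
      (Functor.isoWhiskerRight (lpQ f ≪≫ (Functor.associator _ _ _).symm) _ ≪≫ Functor.associator _ _ _ ≪≫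
        ltOn I (R ⋙ qC f) (fun A => KFlat.isKFlat_pullback f (isKFlat_resF A)) ≪≫
        Functor.isoWhiskerLeft _ (Functor.isoWhiskerRight (swapNat I) (Q₀ X))) _
  let mid : R ⋙ DCoh.tensorCx.obj Z ⋙ Q₀ Y ⟶ ((R ⋙ qC f) ⋙ DCoh.tensorCx.obj I ⋙ Q₀ X) ⋙ DCoh.Rpush f :=
    { app := fun A => (Q₀ Y).map ((theta f I).app (R.obj A)) ≫ (DQPush.unitQ f).app ((rhsF f I).obj (R.obj A))
      naturality := fun A B u => by
        have h1 := congrArg (Q₀ Y).map ((theta f I).naturality (R.map u))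
        have h2 := (DQPush.unitQ f).naturality ((rhsF f I).map (R.map u))
        simp only [Functor.comp_map, Functor.map_comp] at h1 h2 ⊢
        rw [reassoc_of% h1, h2, Category.assoc] }
  let τ₀ := l₁.hom ≫ mid ≫ l₂.inv
  let τ : DCoh.LTensorCx Z ⟶ DCoh.Lpull f ⋙ DCoh.LTensorCx I ⋙ DCoh.Rpush f :=
    Localization.liftNatTrans (Q₀ Y) (HomologicalComplex.quasiIso Y.Modules (ComplexShape.up ℤ)) _ _ _ _ τ₀
  haveI : ∀ E : (DCoh.IsQCohD (X := Y)).FullSubcategory, IsIso (τ.app E.obj) := fun E => by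
    obtain ⟨A, -, -, ⟨e⟩⟩ := KFlat.exists_isKFlat_rep E.obj
    haveI : IsIso (mid.app A) := by
      let P := R.obj A
      have hP : DCoh.IsKFlat P := isKFlat_resF A
      have hPq : ∀ i, Coh.IsQCoh (P.homology i) := fun i =>
        QC.isQCoh_of_iso ((DerivedCategory.homologyFunctor _ i).mapIso
          (((rQ Y).app A) ≪≫ e).symm ≪≫ KFlat.hdIso P i) (E.property i)
      obtain ⟨J, s, hJ, hs⟩ := DerPush.exists_kInj_sch ((rhsF f I).obj P)
      haveI : QuasiIso ((theta f I).app P ≫ (pC f).map s) := quasiIso_of_qisOn _ fun y => by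
        obtain ⟨V, hV, hy⟩ := QC.exists_affine_mem y
        exact ⟨V, hy, (good_iff s).1 (good_of_affine f I hV hIq hP hPq)⟩
      haveI : IsIso ((DQPush.unitQ f).app J) := (rpushIso f J).isIso_hom
      have hn := (DQPush.unitQ f).naturality s
      simp only [Functor.comp_map] at hn
      haveI : IsIso ((mid.app A) ≫ (DCoh.Rpush f).map ((Q₀ X).map s)) := by
        change IsIso (((Q₀ Y).map ((theta f I).app P) ≫ (DQPush.unitQ f).app _) ≫ _)
        rw [Category.assoc, ← hn, ← Category.assoc, ← Functor.map_comp]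
        infer_instance
      exact IsIso.of_isIso_comp_right _ ((DCoh.Rpush f).map ((Q₀ X).map s))
    haveI : IsIso (τ₀.app A) := by
      simp only [τ₀, NatTrans.comp_app]
      exact IsIso.comp_isIso' inferInstance (IsIso.comp_isIso' ‹IsIso (mid.app A)› inferInstance)
    haveI : IsIso (τ.app ((Q₀ Y).obj A)) := by
      rw [Localization.liftNatTrans_app]
      infer_instance
    exact (NatTrans.isIso_app_iff_of_iso τ e.symm).2 ‹_›
  haveI : IsIso (Functor.whiskerLeft (ObjectProperty.ι (DCoh.IsQCohD (X := Y))) τ) :=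
    (NatTrans.isIso_iff_isIso_app _).2 fun E => inferInstanceAs (IsIso (τ.app E.obj))
  exact ⟨Functor.isoWhiskerLeft _ a ≪≫ asIso (Functor.whiskerLeft (ObjectProperty.ι (DCoh.IsQCohD (X := Y))) τ) ≪≫
    Functor.isoWhiskerLeft _ (Functor.isoWhiskerLeft _ (Functor.isoWhiskerRight b.symm _))⟩

end Groth.Agent.FMTool
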