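import Groth.Agent.RHomCx.DualMain
import Groth.Agent.RHomCx.Restrict
import Groth.Agent.ProjForm.Main
import Groth.Agent.KFlat.LTensorComp
import Groth.Agent.KFlat.LpullComp

/-!
Derived inverse images and derived tensor products as functors, computed on functorial K-flat resolutions.
-/

set_option autoImplicit false
set_option backward.isDefEq.respectTransparency false
set_option backward.isDefEq.respectTransparency.types false
set_option linter.style.haveILetI false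
set_option linter.unusedSectionVars false

universe u

open CategoryTheory Limits AlgebraicGeometry HomologicalComplex

attribute [local instance] HasDerivedCategory.standard

namespace Groth.Agent.FMTool

open Groth.Agent.KFlat Groth.Agent.ProjForm

variable {X Y : Scheme.{u}}

/-- the localisation functor -/
noncomputable abbrev Q₀ (X : Scheme.{u}) : CochainComplex X.Modules ℤ ⥤ DCoh.D X := DerivedCategory.Q

/-- K-flat resolutions do not change the class in the derived category -/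
noncomputable def rQ (X : Scheme.{u}) : resF X ⋙ Q₀ X ≅ Q₀ X :=
  haveI : ∀ A, IsIso ((Q₀ X).map ((resψ X).app A)) := fun A => inferInstance
  NatIso.ofComponents (fun A => asIso ((Q₀ X).map ((resψ X).app A))) fun {A B} a =>
    ((Q₀ X).map_comp _ _).symm.trans ((congrArg (Q₀ X).map ((resψ X).naturality a)).trans ((Q₀ X).map_comp _ _))

/-- functors on the derived category agreeing on complexes agree -/
noncomputable def liftIso {D : Type*} [Category* D] {F G : DCoh.D X ⥤ D} (e : Q₀ X ⋙ F ≅ Q₀ X ⋙ G) : F ≅ G :=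
  Localization.liftNatIso (Q₀ X) (HomologicalComplex.quasiIso X.Modules (ComplexShape.up ℤ)) _ _ _ _ e

/-- `Lf^*` on K-flat valued functors -/
noncomputable def lpOn (f : Y ⟶ X) [DCoh.HasLpull f] {C : Type*} [Category* C] (G : C ⥤ CochainComplex X.Modules ℤ)
    (hG : ∀ A, DCoh.IsKFlat (G.obj A)) : G ⋙ Q₀ X ⋙ DCoh.Lpull f ≅ G ⋙ qC f ⋙ Q₀ Y :=
  NatIso.ofComponents (fun A => ProjForm.lpullIso f (hG A))
    fun a => (DQCoh.lpullCounit f).naturality (G.map a)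

/-- `- ⊗^L Z` on K-flat valued functors -/
noncomputable def ltOn (Z : CochainComplex X.Modules ℤ) [DCoh.HasLTensorCx Z] {C : Type*} [Category* C]
    (G : C ⥤ CochainComplex X.Modules ℤ) (hG : ∀ A, DCoh.IsKFlat (G.obj A)) :
    G ⋙ Q₀ X ⋙ DCoh.LTensorCx Z ≅ G ⋙ (DCoh.tensorCx (X := X)).flip.obj Z ⋙ Q₀ X :=
  NatIso.ofComponents (fun A => ltIso Z (hG A)) fun a => (ltCounit Z).naturality (G.map a)

/-- `- ⊗^L Z` for K-flat `Z` on all complexes -/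
noncomputable def ltOnKer {Z : CochainComplex X.Modules ℤ} (hZ : DCoh.IsKFlat Z) [DCoh.HasLTensorCx Z]
    {C : Type*} [Category* C] (G : C ⥤ CochainComplex X.Modules ℤ) :
    G ⋙ Q₀ X ⋙ DCoh.LTensorCx Z ≅ G ⋙ (DCoh.tensorCx (X := X)).flip.obj Z ⋙ Q₀ X :=
  NatIso.ofComponents (fun A => ltIsoOfKFlat hZ (G.obj A)) fun a => (ltCounit Z).naturality (G.map a)

/-- `Lf^*` on complexes -/
noncomputable def lpQ (f : Y ⟶ X) [DCoh.HasLpull f] : Q₀ X ⋙ DCoh.Lpull f ≅ resF X ⋙ qC f ⋙ Q₀ Y :=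
  Functor.isoWhiskerRight (rQ X).symm _ ≪≫ Functor.associator _ _ _ ≪≫ lpOn f (resF X) isKFlat_resF

/-- `- ⊗^L Z` on complexes -/
noncomputable def ltQ (Z : CochainComplex X.Modules ℤ) [DCoh.HasLTensorCx Z] :
    Q₀ X ⋙ DCoh.LTensorCx Z ≅ resF X ⋙ (DCoh.tensorCx (X := X)).flip.obj Z ⋙ Q₀ X :=
  Functor.isoWhiskerRight (rQ X).symm _ ≪≫ Functor.associator _ _ _ ≪≫ ltOn Z (resF X) isKFlat_resF

/-- inverse images and tensor products with a K-flat complex -/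
noncomputable def pullTensNat (f : Y ⟶ X) (K : CochainComplex X.Modules ℤ) :
    (DCoh.tensorCx (X := X)).flip.obj K ⋙ qC f ≅ qC f ⋙ (DCoh.tensorCx (X := Y)).flip.obj ((qC f).obj K) :=
  NatIso.ofComponents (fun A => (pullTotIso f A K).symm) fun {A B} a => by
    change (qC f).map ((RHomCx.FE K).map a) ≫ (pullTotIso f B K).inv =
      (pullTotIso f A K).inv ≫ (RHomCx.FE ((qC f).obj K)).map ((qC f).map a)
    rw [Iso.eq_inv_comp, ← Category.assoc, ← RHomCx.pullTotIso_natural f a K, Category.assoc, Iso.hom_inv_id,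
      Category.comp_id]

/-- `Lf^*(- ⊗^L K) = Lf^*(-) ⊗^L f^*K` for K-flat `K` -/
theorem nonempty_lpull_ltensor_kFlat (f : Y ⟶ X) [DCoh.HasLpull f] {K : CochainComplex X.Modules ℤ}
    (hK : DCoh.IsKFlat K) [DCoh.HasLTensorCx K] [DCoh.HasLTensorCx ((qC f).obj K)] :
    Nonempty (DCoh.LTensorCx K ⋙ DCoh.Lpull f ≅ DCoh.Lpull f ⋙ DCoh.LTensorCx ((qC f).obj K)) := by
  let T := (DCoh.tensorCx (X := X)).flip.obj K
  let T' := (DCoh.tensorCx (X := Y)).flip.obj ((qC f).obj K)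
  let e₁ : Q₀ X ⋙ DCoh.LTensorCx K ⋙ DCoh.Lpull f ≅ (resF X ⋙ T ⋙ Q₀ X) ⋙ DCoh.Lpull f :=
    (Functor.associator _ _ _).symm ≪≫ Functor.isoWhiskerRight (ltQ K) _
  have hT : ∀ A, DCoh.IsKFlat ((resF X ⋙ T).obj A) := fun A =>
    isKFlat_tensorCx (P := (resF X).obj A) (isKFlat_resF A) hK
  let e₂ : (resF X ⋙ T ⋙ Q₀ X) ⋙ DCoh.Lpull f ≅ (resF X ⋙ T) ⋙ qC f ⋙ Q₀ Y :=
    Functor.isoWhiskerRight (Functor.associator (resF X) T (Q₀ X)).symm (DCoh.Lpull f) ≪≫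
      Functor.associator (resF X ⋙ T) (Q₀ X) (DCoh.Lpull f) ≪≫ lpOn f (resF X ⋙ T) hT
  let e₃ : (resF X ⋙ T) ⋙ qC f ⋙ Q₀ Y ≅ (resF X ⋙ qC f) ⋙ T' ⋙ Q₀ Y :=
    (Functor.associator (resF X ⋙ T) (qC f) (Q₀ Y)).symm ≪≫
      Functor.isoWhiskerRight (Functor.associator (resF X) T (qC f) ≪≫
        Functor.isoWhiskerLeft (resF X) (pullTensNat f K) ≪≫ (Functor.associator (resF X) (qC f) T').symm) (Q₀ Y) ≪≫
      Functor.associator (resF X ⋙ qC f) T' (Q₀ Y)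
  let e₄ : (resF X ⋙ qC f) ⋙ T' ⋙ Q₀ Y ≅ (resF X ⋙ qC f) ⋙ Q₀ Y ⋙ DCoh.LTensorCx ((qC f).obj K) :=
    (ltOn ((qC f).obj K) (resF X ⋙ qC f) (fun A => KFlat.isKFlat_pullback f (isKFlat_resF A))).symm
  let e₅ : (resF X ⋙ qC f) ⋙ Q₀ Y ⋙ DCoh.LTensorCx ((qC f).obj K) ≅
      Q₀ X ⋙ DCoh.Lpull f ⋙ DCoh.LTensorCx ((qC f).obj K) :=
    Functor.isoWhiskerRight (lpQ f).symm (DCoh.LTensorCx ((qC f).obj K)) ≪≫ Functor.associator _ _ _
  exact ⟨liftIso (e₁ ≪≫ e₂ ≪≫ e₃ ≪≫ e₄ ≪≫ e₅)⟩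

/-- kernels may be replaced by isomorphic ones -/
theorem nonempty_ltensor_congr {K L : CochainComplex X.Modules ℤ} [DCoh.HasLTensorCx K] [DCoh.HasLTensorCx L]
    (e : DCoh.toD X K ≅ DCoh.toD X L) : Nonempty (DCoh.LTensorCx K ≅ DCoh.LTensorCx L) :=
  RHomCx.nonempty_LTensorCx_congr e

/-- **`Lf^*(- ⊗^L K) = Lf^*(-) ⊗^L Lf^*K`**, as functors -/
theorem nonempty_lpull_ltensor (f : Y ⟶ X) [DCoh.HasLpull f] (K : CochainComplex X.Modules ℤ)
    [DCoh.HasLTensorCx K] (K' : CochainComplex Y.Modules ℤ) [DCoh.HasLTensorCx K']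
    (e : DCoh.toD Y K' ≅ (DCoh.Lpull f).obj (DCoh.toD X K)) :
    Nonempty (DCoh.LTensorCx K ⋙ DCoh.Lpull f ≅ DCoh.Lpull f ⋙ DCoh.LTensorCx K') := by
  let P := (resF X).obj K
  haveI := KFlat.hasLTensorCx P
  haveI := KFlat.hasLTensorCx ((qC f).obj P)
  have hP : DCoh.IsKFlat P := isKFlat_resF K
  let q : DCoh.toD X P ≅ DCoh.toD X K := (rQ X).app K
  obtain ⟨a⟩ := nonempty_lpull_ltensor_kFlat f hP
  obtain ⟨b⟩ := nonempty_ltensor_congr q
  obtain ⟨c⟩ := nonempty_ltensor_congr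
    ((ProjForm.lpullIso f hP).symm ≪≫ (DCoh.Lpull f).mapIso q ≪≫ e.symm : DCoh.toD Y ((qC f).obj P) ≅ DCoh.toD Y K')
  exact ⟨Functor.isoWhiskerRight b.symm _ ≪≫ a ≪≫ Functor.isoWhiskerLeft _ c⟩

/-- composites of derived inverse images of equal composites -/
theorem nonempty_lpull_square {Z W : Scheme.{u}} {f : Z ⟶ Y} {g : Y ⟶ X} {f' : Z ⟶ W} {g' : W ⟶ X}
    (h : f ≫ g = f' ≫ g') [DCoh.HasLpull f] [DCoh.HasLpull g] [DCoh.HasLpull f'] [DCoh.HasLpull g'] :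
    Nonempty (DCoh.Lpull g ⋙ DCoh.Lpull f ≅ DCoh.Lpull g' ⋙ DCoh.Lpull f') := by
  haveI := KFlat.hasLpull (f ≫ g)
  haveI : DCoh.HasLpull (f' ≫ g') := KFlat.hasLpull _
  obtain ⟨a⟩ := KFlat.Lpull_comp_sch f g
  obtain ⟨b⟩ := KFlat.Lpull_comp_sch f' g'
  have hc : ∀ {u v : Z ⟶ X} (_ : u = v) [DCoh.HasLpull u] [DCoh.HasLpull v],
      Nonempty (DCoh.Lpull u ≅ DCoh.Lpull v) := fun {u v} e _ _ => by
    subst e
    exact ⟨Iso.refl _⟩
  obtain ⟨c⟩ := hc h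
  exact ⟨a ≪≫ c ≪≫ b.symm⟩

end Groth.Agent.FMTool
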