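import Groth.Agent.FMTool.Basic
import Groth.Agent.TorBC.Canon
import Groth.Agent.TorBC.TorLocal
import Groth.Agent.DQCoh.Tensor
import Groth.Agent.DQCoh.Pullback
import Mathlib.AlgebraicGeometry.Morphisms.Flat

/-!
Base change as an isomorphism of functors on `D_QCoh`.
-/

set_option autoImplicit false
set_option backward.isDefEq.respectTransparency false
set_option backward.isDefEq.respectTransparency.types false
set_option linter.style.haveILetI false
set_option linter.unusedSectionVars false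

universe u

open CategoryTheory Limits AlgebraicGeometry HomologicalComplex

attribute [local instance] HasDerivedCategory.standard

namespace Groth.Agent.FMTool

open Groth.Agent.KFlat Groth.Agent.ProjForm

/-- `Tor` is symmetric as far as vanishing goes -/
lemma subsingleton_tor_swap {A : Type u} [CommRing A] {M N : Type u} [AddCommGroup M] [Module A M] [AddCommGroup N]
    [Module A N] {i : ℕ} (hi : 0 < i) (h : Subsingleton (DRing.Tor A i N M)) : Subsingleton (DRing.Tor A i M N) := by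
  obtain ⟨q, rfl⟩ : ∃ q, i = q + 1 := ⟨i - 1, by omega⟩
  let RM := projectiveResolution (ModuleCat.of A M)
  let RN := projectiveResolution (ModuleCat.of A N)
  haveI := h
  refine ModuleCat.subsingleton_of_isZero ((DRingKP.isZero_tor_iff (ModuleCat.of A M) (ModuleCat.of A N) RN q).2 ?_)
  rw [DRingKP.isZero_balance RN RM, ← DRingKP.isZero_tor_iff]
  exact ModuleCat.isZero_of_subsingleton _

/-- higher `Tor` against a flat module vanishes -/
lemma subsingleton_tor_flat {A : Type u} [CommRing A] {M : Type u} [AddCommGroup M] [Module A M] [Module.Flat A M]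
    (N : Type u) [AddCommGroup N] [Module A N] {i : ℕ} (hi : 0 < i) : Subsingleton (DRing.Tor A i M N) :=
  (DRingKP.hasTorDimLE_iff M 0).2 (by simpa using (DRingKP.amp_zero_iff_flat M).2 ‹_›) N i hi

variable {X S X' S' : Scheme.{u}} {f : X ⟶ S} {g : S' ⟶ S} {g' : X' ⟶ X} {f' : X' ⟶ S'}

/-- squares with a flat side are Tor independent -/
lemma tor_of_flat (hflat : Flat g ∨ Flat f) (U : S.Opens) (hU : IsAffineOpen U) (U' : S'.Opens)
    (hU' : IsAffineOpen U') (e : U' ≤ g ⁻¹ᵁ U) (V : X.Opens) (hV : IsAffineOpen V) (e' : V ≤ f ⁻¹ᵁ U)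
    (i : ℕ) (hi : 0 < i) :
    Subsingleton (@DRing.Tor Γ(S, U) _ i Γ(S', U') Γ(X, V) _ (g.appLE U U' e).hom.toModule _
      (f.appLE U V e').hom.toModule) := by
  letI := (g.appLE U U' e).hom.toAlgebra
  letI := (f.appLE U V e').hom.toAlgebra
  rcases hflat with h | h
  · haveI : Module.Flat Γ(S, U) Γ(S', U') := HasRingHomProperty.appLE @Flat g h ⟨U, hU⟩ ⟨U', hU'⟩ e
    exact subsingleton_tor_flat _ hi
  · haveI : Module.Flat Γ(S, U) Γ(X, V) := HasRingHomProperty.appLE @Flat f h ⟨U, hU⟩ ⟨V, hV⟩ e'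
    exact subsingleton_tor_swap hi (subsingleton_tor_flat _ hi)

/-- **base change**, as an isomorphism of functors on `D_QCoh`, for squares with a flat side -/
theorem nonempty_bcNat [QuasiCompact f] [QuasiSeparated f] (H : IsPullback g' f' f g) (hflat : Flat g ∨ Flat f)
    [DCoh.HasRpush f] [DCoh.HasLpull g] [DCoh.HasRpush f'] [DCoh.HasLpull g'] :
    Nonempty (ObjectProperty.ι (DCoh.IsQCohD (X := X)) ⋙ DCoh.Rpush f ⋙ DCoh.Lpull g ≅
      ObjectProperty.ι (DCoh.IsQCohD (X := X)) ⋙ DCoh.Lpull g' ⋙ DCoh.Rpush f') := by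
  haveI := DerPush.hasRpush_sch g
  haveI := DerPush.hasRpush_sch g'
  obtain ⟨adjg⟩ := DerPush.nonempty_lpull_adj_rpush g
  obtain ⟨adjg'⟩ := DerPush.nonempty_lpull_adj_rpush g'
  obtain ⟨e, he⟩ := TorBC.exists_isIso_baseChangeApp_of_local H adjg adjg' DCoh.IsQCohD (fun _ h => h)
    fun _ _ _ hL hLq _ _ l _ _ _ π _ _ _ _ _ jV jX jW jY _ _ _ _ _ _ _ _ _ _ _ _ HW wf wg' wg _ =>
      TorBC.exists_local_tor (tor_of_flat hflat) hL hLq l π jV jX jW jY HW wf wg' wg
  haveI : ∀ E : (DCoh.IsQCohD (X := X)).FullSubcategory, IsIso (DCoh.baseChangeApp adjg adjg' e E.obj) :=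
    fun E => he E.obj E.property
  exact ⟨NatIso.ofComponents (fun E => asIso (DCoh.baseChangeApp adjg adjg' e E.obj))
    fun φ => (FlatBCD.baseChangeApp_naturality adjg adjg' e φ.hom).symm⟩

/-- isomorphisms of functors on `D_QCoh` after a functor preserving quasi-coherence -/
noncomputable def restrictNat {Y : Scheme.{u}} {D : Type*} [Category* D] {F : DCoh.D Y ⥤ DCoh.D X}
    (hF : ∀ E, DCoh.IsQCohD E → DCoh.IsQCohD (F.obj E)) {G G' : DCoh.D X ⥤ D}
    (e : ObjectProperty.ι (DCoh.IsQCohD (X := X)) ⋙ G ≅ ObjectProperty.ι (DCoh.IsQCohD (X := X)) ⋙ G') :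
    ObjectProperty.ι (DCoh.IsQCohD (X := Y)) ⋙ F ⋙ G ≅ ObjectProperty.ι (DCoh.IsQCohD (X := Y)) ⋙ F ⋙ G' :=
  Functor.isoWhiskerLeft
    (ObjectProperty.lift (DCoh.IsQCohD (X := X)) (ObjectProperty.ι (DCoh.IsQCohD (X := Y)) ⋙ F)
      fun E => hF E.obj E.property) e

end Groth.Agent.FMTool
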