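import Groth.Agent.FMTool.Assoc
import Groth.Agent.ProjForm.Perfect
import Groth.Agent.DCohMV.Leray
import Groth.Agent.DerPerf.Local
import Groth.Prelude.Def_DualFM

/-!
`RΓ(X, Ψ(F) ⊗ E) = RΓ(Y, Φ(E) ⊗ F)`.
-/

set_option autoImplicit false
set_option backward.isDefEq.respectTransparency false
set_option backward.isDefEq.respectTransparency.types false
set_option linter.style.haveILetI false
set_option linter.unusedSectionVars false

universe u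

open CategoryTheory Limits AlgebraicGeometry HomologicalComplex

attribute [local instance] HasDerivedCategory.standard

namespace Groth.Agent.FMTool

open Groth.Agent.KFlat Groth.Agent.ProjForm

variable {X Y : Scheme.{u}}

/-- perfectness is invariant under isomorphism -/
lemma isPerfect_iso {E E' : DCoh.D X} (e : E ≅ E') (h : DCoh.IsPerfect E) : DCoh.IsPerfect E' := fun x => by
  obtain ⟨V, hx, hV⟩ := h x
  exact ⟨V, hx, fun F ⟨a⟩ => hV F ⟨a ≪≫ e.symm⟩⟩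

lemma hasRGamma (X : Scheme.{u}) : DCoh.HasRΓ X :=
  (KInj.isDeforming_Qh DerPush.exists_kInj_sch (DCoh.gammaKh X)).hasRightDerivedFunctor _

/-- the projection formula for a perfect kernel, arbitrary objects -/
theorem nonempty_projFormula_perf (f : X ⟶ Y) [DCoh.HasRpush f] [DCoh.HasLpull f] (K : CochainComplex Y.Modules ℤ)
    (hK : DCoh.IsPerfect (DCoh.toD Y K)) [DCoh.HasLTensorCx K] (M : CochainComplex X.Modules ℤ)
    (eM : DCoh.toD X M ≅ (DCoh.Lpull f).obj (DCoh.toD Y K)) [DCoh.HasLTensorCx M] (E : DCoh.D X) :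
    Nonempty ((DCoh.LTensorCx K).obj ((DCoh.Rpush f).obj E) ≅ (DCoh.Rpush f).obj ((DCoh.LTensorCx M).obj E)) := by
  let P := (resF Y).obj K
  haveI := KFlat.hasLTensorCx P
  haveI := KFlat.hasLTensorCx ((qC f).obj P)
  have hP : DCoh.IsKFlat P := isKFlat_resF K
  let q : DCoh.toD Y P ≅ DCoh.toD Y K := (rQ Y).app K
  obtain ⟨a⟩ := ProjForm.nonempty_projFormula_perfect f P hP (isPerfect_iso q.symm hK) E
  obtain ⟨b⟩ := nonempty_ltensor_congr q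
  obtain ⟨c⟩ := nonempty_ltensor_congr
    ((ProjForm.lpullIso f hP).symm ≪≫ (DCoh.Lpull f).mapIso q ≪≫ eM.symm : DCoh.toD X ((qC f).obj P) ≅ DCoh.toD X M)
  exact ⟨b.symm.app _ ≪≫ a ≪≫ (DCoh.Rpush f).mapIso (c.app E)⟩

/-- `A ⊗ B = B ⊗ A` -/
theorem nonempty_ltensor_swap (A B : CochainComplex X.Modules ℤ) [DCoh.HasLTensorCx A] [DCoh.HasLTensorCx B] :
    Nonempty ((DCoh.LTensorCx B).obj (DCoh.toD X A) ≅ (DCoh.LTensorCx A).obj (DCoh.toD X B)) := by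
  let P := (resF X).obj A
  let R := (resF X).obj B
  haveI := KFlat.hasLTensorCx P
  haveI := KFlat.hasLTensorCx R
  obtain ⟨a⟩ := nonempty_ltensor_congr ((rQ X).app A : DCoh.toD X P ≅ DCoh.toD X A)
  obtain ⟨b⟩ := nonempty_ltensor_congr ((rQ X).app B : DCoh.toD X R ≅ DCoh.toD X B)
  exact ⟨(DCoh.LTensorCx B).mapIso ((rQ X).app A).symm ≪≫ b.symm.app _ ≪≫ ltIso R (isKFlat_resF A) ≪≫
    DerivedCategory.Q.mapIso (swapIso (braid X.sheaf) P R) ≪≫ (ltIso P (isKFlat_resF B)).symm ≪≫ a.app _ ≪≫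
    (DCoh.LTensorCx A).mapIso ((rQ X).app B)⟩

/-- **the two transforms have the same pairing** -/
theorem nonempty_pairing {X Y T : Scheme.{u}} (p : T ⟶ X) (q : T ⟶ Y) (P : CochainComplex T.Modules ℤ)
    [DCoh.HasLpull p] [DCoh.HasLpull q] [DCoh.HasLTensorCx P] [DCoh.HasRpush p] [DCoh.HasRpush q]
    [DCoh.HasRΓ X] [DCoh.HasRΓ Y] (E : CochainComplex X.Modules ℤ) (hE : DCoh.IsPerfect (DCoh.toD X E))
    [DCoh.HasLTensorCx E] (F : CochainComplex Y.Modules ℤ) (hF : DCoh.IsPerfect (DCoh.toD Y F))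
    [DCoh.HasLTensorCx F] :
    Nonempty ((DCoh.RΓ X).obj ((DCoh.LTensorCx E).obj ((DCoh.Rpush p).obj ((DCoh.LTensorCx P).obj
        ((DCoh.Lpull q).obj (DCoh.toD Y F))))) ≅
      (DCoh.RΓ Y).obj ((DCoh.LTensorCx F).obj ((DCoh.Rpush q).obj ((DCoh.LTensorCx P).obj
        ((DCoh.Lpull p).obj (DCoh.toD X E)))))) := by
  haveI := hasRGamma T
  obtain ⟨E₁, ⟨eE⟩⟩ := exists_rep ((DCoh.Lpull p).obj (DCoh.toD X E))
  obtain ⟨F₁, ⟨eF⟩⟩ := exists_rep ((DCoh.Lpull q).obj (DCoh.toD Y F))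
  haveI := KFlat.hasLTensorCx E₁
  haveI := KFlat.hasLTensorCx F₁
  obtain ⟨N₁, ⟨n₁⟩⟩ := exists_rep ((DCoh.LTensorCx E₁).obj (DCoh.toD T P))
  obtain ⟨N₂, ⟨n₂⟩⟩ := exists_rep ((DCoh.LTensorCx F₁).obj (DCoh.toD T P))
  haveI := KFlat.hasLTensorCx N₁
  haveI := KFlat.hasLTensorCx N₂
  obtain ⟨a⟩ := nonempty_projFormula_perf p E hE E₁ eE ((DCoh.LTensorCx P).obj ((DCoh.Lpull q).obj (DCoh.toD Y F)))
  obtain ⟨b⟩ := nonempty_projFormula_perf q F hF F₁ eF ((DCoh.LTensorCx P).obj ((DCoh.Lpull p).obj (DCoh.toD X E)))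
  obtain ⟨r₁⟩ := DCohMV.nonempty_leray p
  obtain ⟨r₂⟩ := DCohMV.nonempty_leray q
  -- `(F ⊗ P) ⊗ E = (E ⊗ P) ⊗ F`
  obtain ⟨c₁⟩ := nonempty_ltensor_comp P E₁ N₁ n₁
  obtain ⟨c₂⟩ := nonempty_ltensor_comp P F₁ N₂ n₂
  obtain ⟨s₁⟩ := nonempty_ltensor_swap F₁ N₁
  obtain ⟨s₂⟩ := nonempty_ltensor_swap P E₁
  obtain ⟨s₃⟩ := nonempty_ltensor_swap E₁ F₁
  let e : (DCoh.LTensorCx E₁).obj ((DCoh.LTensorCx P).obj (DCoh.toD T F₁)) ≅
      (DCoh.LTensorCx F₁).obj ((DCoh.LTensorCx P).obj (DCoh.toD T E₁)) :=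
    c₁.app _ ≪≫ s₁ ≪≫ (DCoh.LTensorCx F₁).mapIso (n₁ ≪≫ s₂)
  exact ⟨(DCoh.RΓ X).mapIso a ≪≫ r₁.app _ ≪≫
    (DCoh.RΓ T).mapIso ((DCoh.LTensorCx E₁).mapIso ((DCoh.LTensorCx P).mapIso eF.symm) ≪≫ e ≪≫
      (DCoh.LTensorCx F₁).mapIso ((DCoh.LTensorCx P).mapIso eE)) ≪≫
    (r₂.app _).symm ≪≫ (DCoh.RΓ Y).mapIso b.symm⟩

end Groth.Agent.FMTool
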