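import Groth.Agent.FMTool.Assoc
import Groth.Agent.TorBC.Chain
import Groth.Agent.PerfLocus.Main
import Groth.Agent.RefDiv.Lat
import Groth.Agent.TMul.Power
import Groth.Agent.KFlat.TorAmp

/-!
Derived tensor products with invertible modules.
-/

set_option autoImplicit false
set_option backward.isDefEq.respectTransparency false
set_option backward.isDefEq.respectTransparency.types false
set_option linter.style.haveILetI false
set_option linter.unusedSectionVars false

universe u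

open CategoryTheory Limits AlgebraicGeometry HomologicalComplex

attribute [local instance] HasDerivedCategory.standard

namespace Groth.Agent.FMTool

open Groth.Agent.KFlat Groth.Agent.ProjForm Groth.Agent.TorBC

variable {X Y : Scheme.{u}}

/-- invertible modules are flat -/
lemma isFlat_invertible {M : X.Modules} (hM : PicF.IsInvertible M) : FlatMod.IsFlat M := fun x => by
  obtain ⟨U, e, hxU, he⟩ := TMul.exists_isGen hM x
  exact Module.Flat.of_linearEquiv
    (LinearEquiv.ofBijective (LinearMap.toSpanSingleton _ _ (Groth.Agent.WeakAssLib.mgerm M hxU e))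
      (RefDiv.bijective_germ_of_isGen he hxU)).symm

/-- invertible modules give K-flat complexes -/
lemma isKFlat_sg_invertible {M : X.Modules} (hM : PicF.IsInvertible M) : DCoh.IsKFlat (TorBC.sg M) :=
  PerfLocus.isKFlat_sg 0 (isFlat_invertible hM)

/-- `- ⊗^L M` for a module is `- ⊗^L M[0]` -/
theorem nonempty_ltmod (M : X.Modules) [DCoh.HasLTensorMod M] [DCoh.HasLTensorCx (TorBC.sg M)] :
    Nonempty (DCoh.LTensorMod M ≅ DCoh.LTensorCx (TorBC.sg M)) := by
  let α := (DCoh.tensorModKh M).totalLeftDerivedCounit DerivedCategory.Qh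
    (HomotopyCategory.quasiIso X.Modules (ComplexShape.up ℤ))
  let β : Q₀ X ⋙ DCoh.LTensorMod M ⟶ tR M ⋙ Q₀ X :=
    Functor.whiskerRight (DerivedCategory.quotientCompQhIso X.Modules).inv _ ≫ (Functor.associator _ _ _).hom ≫
      Functor.whiskerLeft (HomotopyCategory.quotient X.Modules (ComplexShape.up ℤ)) α ≫
      (Functor.associator _ _ _).inv ≫ Functor.whiskerRight
        ((DCoh.tensorRightMod M).mapHomotopyCategoryFactors (ComplexShape.up ℤ)).hom _ ≫
      (Functor.associator _ _ _).hom ≫ Functor.whiskerLeft _ (DerivedCategory.quotientCompQhIso X.Modules).hom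
  haveI : ∀ A, IsIso (β.app ((resF X).obj A)) := fun A => by
    haveI := KFlat.isIso_app_of_kFlat (kFlatAcyclic_tensorRightMod M) (DCoh.LTensorMod M) α (isKFlat_resF A)
    simp only [β, NatTrans.comp_app, Functor.whiskerRight_app, Functor.whiskerLeft_app,
      Functor.associator_hom_app, Functor.associator_inv_app]
    infer_instance
  let e₁ : resF X ⋙ Q₀ X ⋙ DCoh.LTensorMod M ≅ resF X ⋙ tR M ⋙ Q₀ X :=
    NatIso.ofComponents (fun A => asIso (β.app ((resF X).obj A))) fun a => β.naturality ((resF X).map a)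
  let e₂ : resF X ⋙ tR M ⋙ Q₀ X ≅ resF X ⋙ (DCoh.tensorCx (X := X)).flip.obj (TorBC.sg M) ⋙ Q₀ X :=
    Functor.isoWhiskerLeft _ (Functor.isoWhiskerRight
      (NatIso.ofComponents (fun A => sR A M) fun a => sR_natural a M) _)
  exact ⟨liftIso (Functor.isoWhiskerRight (rQ X).symm _ ≪≫ Functor.associator _ _ _ ≪≫ e₁ ≪≫ e₂ ≪≫
    (ltQ (TorBC.sg M)).symm)⟩

/-- inverse images of invertible modules -/
theorem nonempty_lpull_sg (f : Y ⟶ X) [DCoh.HasLpull f] {M : X.Modules} (hM : PicF.IsInvertible M) :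
    Nonempty (DCoh.toD Y (TorBC.sg ((Scheme.Modules.pullback f).obj M)) ≅
      (DCoh.Lpull f).obj (DCoh.toD X (TorBC.sg M))) :=
  ⟨(DerivedCategory.Q.mapIso
      ((singleMapHomologicalComplex (Scheme.Modules.pullback f) (ComplexShape.up ℤ) 0).app M)).symm ≪≫
    (ProjForm.lpullIso f (isKFlat_sg_invertible hM)).symm⟩

/-- tensor products of invertible modules -/
theorem nonempty_ltensor_sg {L : X.Modules} (hL : PicF.IsInvertible L) (M : X.Modules)
    [DCoh.HasLTensorCx (TorBC.sg M)] :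
    Nonempty (DCoh.toD X (TorBC.sg (CohB1.tensorMod L M)) ≅
      (DCoh.LTensorCx (TorBC.sg M)).obj (DCoh.toD X (TorBC.sg L))) := by
  let e : (TN M).obj (TorBC.sg L) ≅ TorBC.sg (CohB1.tensorMod L M) :=
    (singleMapHomologicalComplex ((schB X).flip.obj M) (ComplexShape.up ℤ) 0).app L
  exact ⟨(DerivedCategory.Q.mapIso e).symm ≪≫ DerivedCategory.Q.mapIso (sR (TorBC.sg L) M) ≪≫
    (ltIso (TorBC.sg M) (isKFlat_sg_invertible hL)).symm⟩

/-- `LTensorMod` and inverse images -/
theorem nonempty_ltmod_lpull (f : Y ⟶ X) [DCoh.HasLpull f] {M : X.Modules} (hM : PicF.IsInvertible M)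
    [DCoh.HasLTensorMod M] [DCoh.HasLTensorMod ((Scheme.Modules.pullback f).obj M)] :
    Nonempty (DCoh.LTensorMod M ⋙ DCoh.Lpull f ≅
      DCoh.Lpull f ⋙ DCoh.LTensorMod ((Scheme.Modules.pullback f).obj M)) := by
  haveI := KFlat.hasLTensorCx (TorBC.sg M)
  haveI := KFlat.hasLTensorCx (TorBC.sg ((Scheme.Modules.pullback f).obj M))
  obtain ⟨a⟩ := nonempty_ltmod M
  obtain ⟨b⟩ := nonempty_ltmod ((Scheme.Modules.pullback f).obj M)
  obtain ⟨e⟩ := nonempty_lpull_sg f hM
  obtain ⟨c⟩ := nonempty_lpull_ltensor f _ _ e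
  exact ⟨Functor.isoWhiskerRight a _ ≪≫ c ≪≫ Functor.isoWhiskerLeft _ b.symm⟩

/-- composites of `LTensorMod` -/
theorem nonempty_ltmod_comp {L : X.Modules} (hL : PicF.IsInvertible L) (M : X.Modules) [DCoh.HasLTensorMod L]
    [DCoh.HasLTensorMod M] [DCoh.HasLTensorMod (CohB1.tensorMod L M)] :
    Nonempty (DCoh.LTensorMod L ⋙ DCoh.LTensorMod M ≅ DCoh.LTensorMod (CohB1.tensorMod L M)) := by
  haveI := KFlat.hasLTensorCx (TorBC.sg L)
  haveI := KFlat.hasLTensorCx (TorBC.sg M)
  haveI := KFlat.hasLTensorCx (TorBC.sg (CohB1.tensorMod L M))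
  obtain ⟨a⟩ := nonempty_ltmod L
  obtain ⟨b⟩ := nonempty_ltmod M
  obtain ⟨c⟩ := nonempty_ltmod (CohB1.tensorMod L M)
  obtain ⟨e⟩ := nonempty_ltensor_sg hL M
  obtain ⟨d⟩ := nonempty_ltensor_comp _ _ _ e
  exact ⟨Functor.isoWhiskerRight a _ ≪≫ Functor.isoWhiskerLeft _ b ≪≫ d ≪≫ c.symm⟩

/-- `LTensorMod` of isomorphic modules -/
theorem nonempty_ltmod_congr {L M : X.Modules} (e : L ≅ M) [DCoh.HasLTensorMod L] [DCoh.HasLTensorMod M] :
    Nonempty (DCoh.LTensorMod L ≅ DCoh.LTensorMod M) := by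
  haveI := KFlat.hasLTensorCx (TorBC.sg L)
  haveI := KFlat.hasLTensorCx (TorBC.sg M)
  obtain ⟨a⟩ := nonempty_ltmod L
  obtain ⟨b⟩ := nonempty_ltmod M
  obtain ⟨c⟩ := nonempty_ltensor_congr (DerivedCategory.Q.mapIso
    ((HomologicalComplex.single X.Modules (ComplexShape.up ℤ) 0).mapIso e) :
      DCoh.toD X (TorBC.sg L) ≅ DCoh.toD X (TorBC.sg M))
  exact ⟨a ≪≫ c ≪≫ b.symm⟩

end Groth.Agent.FMTool
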