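import Groth.Agent.FMTool.Basic
import Groth.Agent.TorBC.Chain
import Groth.Agent.KFlat.ClosedImm
import Groth.Agent.HTorBC.KunnMain
import Groth.Agent.DerPush.Exact
import Groth.Prelude.Def_DualFM

/-!
The structure sheaf of the diagonal is the identity kernel.
-/

set_option autoImplicit false
set_option backward.isDefEq.respectTransparency false
set_option backward.isDefEq.respectTransparency.types false
set_option linter.style.haveILetI false
set_option linter.unusedSectionVars false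

universe u

open CategoryTheory Limits AlgebraicGeometry HomologicalComplex

attribute [local instance] HasDerivedCategory.standard

namespace Groth.Agent.FMTool

open Groth.Agent.KFlat Groth.Agent.ProjForm Groth.Agent.TorBC

variable {X Y : Scheme.{u}} (i : Y ⟶ X)

lemma isIso_unitAct_closedImm [IsClosedImmersion i] : IsIso (TorBC.unitAct i) := by
  haveI : ∀ M, IsIso ((TorBC.unitAct i).app M) := fun M => by
    have e : (TorBC.unitAct i).app M = brM M ((Scheme.Modules.pushforward i).obj (OO Y)) ≫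
        projHom i (OO Y) M ≫ (Scheme.Modules.pushforward i).map (unitL _) := (braid_projHom_eq_act i M).symm
    have hs : ∀ {Z : Scheme.{u}} (A B : Z.Modules), brM A B ≫ brM B A = 𝟙 (((schB Z).obj A).obj B) :=
      fun A B => tens_ext fun U a b => by
        rw [Scheme.Modules.Hom.comp_app, ConcreteCategory.comp_apply, tm_braid, tm_braid]
        rfl
    have hb : ∀ {Z : Scheme.{u}} (A B : Z.Modules), IsIso (brM A B) := fun A B => ⟨brM B A, hs _ _, hs _ _⟩
    haveI := hb M ((Scheme.Modules.pushforward i).obj (OO Y))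
    haveI := isIso_projHom i (OO Y) M
    haveI : IsIso (unitL ((Scheme.Modules.pullback i).obj M)) := by
      haveI := hb (OO Y) ((Scheme.Modules.pullback i).obj M)
      haveI := ProjForm.isIso_rho ((Scheme.Modules.pullback i).obj M)
      haveI : IsIso (unitR ((Scheme.Modules.pullback i).obj M)) := inferInstanceAs (IsIso (inv _))
      rw [unitL]; infer_instance
    rw [e]; infer_instance
  exact NatIso.isIso_of_isIso_app _

/-- tensoring with `i_*O` for a closed immersion -/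
noncomputable def kerPull [IsClosedImmersion i] :
    (DCoh.tensorCx (X := X)).flip.obj (sg ((Scheme.Modules.pushforward i).obj (OO Y))) ≅ qC i ⋙ pC i :=
  haveI := isIso_unitAct_closedImm i
  NatIso.ofComponents (fun A => (sR A _).symm ≪≫
      HomologicalComplex.Hom.isoOfComponents (fun n => (asIso (TorBC.unitAct i)).app (A.X n))
        fun a b _ => ((TorBC.unitAct i).naturality (A.d a b)).symm) fun {A B} φ => by
    let GO := (Scheme.Modules.pushforward i).obj (OO Y)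
    have h1 : ((DCoh.tensorCx (X := X)).flip.obj (sg GO)).map φ ≫ (sR B GO).inv = (sR A GO).inv ≫ (TN GO).map φ := by
      rw [Iso.eq_inv_comp, ← Category.assoc, Iso.comp_inv_eq]
      exact (sR_natural φ GO).symm
    simp only [Iso.trans_hom, Iso.symm_hom]
    rw [reassoc_of% h1, Category.assoc]
    refine congrArg (_ ≫ ·) (HomologicalComplex.hom_ext _ _ fun n => ?_)
    exact (TorBC.unitAct i).naturality (φ.f n)

/-- `Ri_*` on complexes, for a closed immersion -/
noncomputable def rpQ [IsClosedImmersion i] [DCoh.HasRpush i] : pC i ⋙ Q₀ X ≅ Q₀ Y ⋙ DCoh.Rpush i :=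
  haveI : (Scheme.Modules.pushforward i).PreservesHomology := KFlat.preservesHomology_pushforward i
  haveI : ∀ K, IsIso ((DQPush.unitQ i).app K) := fun K => by
    haveI := DerPush.isIso_rpushUnit_app_of_exact i K
    dsimp [DQPush.unitQ, AcycDef.unitQ]
    infer_instance
  haveI : IsIso (DQPush.unitQ i) := NatIso.isIso_of_isIso_app _
  asIso (DQPush.unitQ i)

/-- `L(𝟙)^*` is the identity -/
theorem nonempty_lpull_id (X : Scheme.{u}) [DCoh.HasLpull (𝟙 X)] : Nonempty (DCoh.Lpull (𝟙 X) ≅ 𝟭 (DCoh.D X)) :=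
  ⟨liftIso (lpQ (𝟙 X) ≪≫ Functor.isoWhiskerLeft (resF X) (Functor.isoWhiskerRight
    (NatIso.mapHomologicalComplex (Scheme.Modules.pullbackId X) (ComplexShape.up ℤ) ≪≫
      Functor.mapHomologicalComplexIdIso _ _) (Q₀ X) ≪≫ Functor.leftUnitor _) ≪≫ rQ X ≪≫
    (Functor.rightUnitor _).symm)⟩

/-- `R(𝟙)_*` is the identity -/
theorem nonempty_rpush_id (X : Scheme.{u}) [DCoh.HasRpush (𝟙 X)] : Nonempty (DCoh.Rpush (𝟙 X) ≅ 𝟭 (DCoh.D X)) := by
  haveI := KFlat.hasLpull (𝟙 X)
  obtain ⟨a⟩ := DerPush.nonempty_lpull_adj_rpush (𝟙 X)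
  obtain ⟨e⟩ := nonempty_lpull_id X
  exact ⟨(a.ofNatIsoLeft e).rightAdjointUniq Adjunction.id⟩

/-- **the diagonal kernel gives the identity** -/
theorem nonempty_phi_diag {S X : Scheme.{u}} (a : X ⟶ S) [IsSeparated a]
    (K : CochainComplex (pullback a a).Modules ℤ) (hK : Nonempty (DCoh.toD _ K ≅ FMK.diagO a))
    [DCoh.HasLpull (pullback.fst a a)] [DCoh.HasLTensorCx K] [DCoh.HasRpush (pullback.snd a a)] :
    Nonempty (FMK.phi a a K ≅ 𝟭 (DCoh.D X)) := by
  obtain ⟨eK⟩ := hK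
  let Z := pullback a a
  let p₁ : Z ⟶ X := pullback.fst a a
  let p₂ : Z ⟶ X := pullback.snd a a
  let Δ : X ⟶ Z := pullback.diagonal a
  haveI : IsClosedImmersion Δ := inferInstance
  haveI := DerPush.hasRpush_sch Δ
  haveI : DCoh.HasRpush (Δ ≫ p₂) := DerPush.hasRpush_sch _
  haveI := DerPush.hasRpush_sch (𝟙 X)
  let D := sg ((Scheme.Modules.pushforward Δ).obj (OO X))
  haveI := KFlat.hasLTensorCx D
  obtain ⟨eT⟩ := nonempty_ltensor_congr (K := K) (L := D)
    (eK ≪≫ (DerivedCategory.singleFunctorIsoCompQ Z.Modules 0).app _ : DCoh.toD Z K ≅ DCoh.toD Z D)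
  obtain ⟨r₁⟩ := HTorBC.nonempty_rpush_comp Δ p₂
  obtain ⟨r₂⟩ := HTorBC.nonempty_rpush_congr (show Δ ≫ p₂ = 𝟙 X from pullback.diagonal_snd a)
  obtain ⟨r₃⟩ := nonempty_rpush_id X
  let c : qC p₁ ⋙ qC Δ ≅ 𝟭 (CochainComplex X.Modules ℤ) :=
    NatIso.mapHomologicalComplex (Scheme.Modules.pullbackComp Δ p₁ ≪≫
      Scheme.Modules.pullbackCongr (pullback.diagonal_fst a) ≪≫ Scheme.Modules.pullbackId X) (ComplexShape.up ℤ) ≪≫
      Functor.mapHomologicalComplexIdIso _ _
  let T := (DCoh.tensorCx (X := Z)).flip.obj D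
  let e₀ : qC p₁ ⋙ T ≅ pC Δ :=
    Functor.isoWhiskerLeft _ (kerPull Δ) ≪≫ (Functor.associator _ _ _).symm ≪≫ Functor.isoWhiskerRight c _ ≪≫
      Functor.leftUnitor _
  let e₁ : Q₀ X ⋙ DCoh.Lpull p₁ ⋙ DCoh.LTensorCx D ≅ resF X ⋙ pC Δ ⋙ Q₀ Z :=
    (Functor.associator _ _ _).symm ≪≫ Functor.isoWhiskerRight (lpQ p₁) _ ≪≫
      Functor.isoWhiskerRight (Functor.associator (resF X) (qC p₁) (Q₀ Z)).symm _ ≪≫
      Functor.associator (resF X ⋙ qC p₁) (Q₀ Z) (DCoh.LTensorCx D) ≪≫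
      ltOn D (resF X ⋙ qC p₁) (fun A => KFlat.isKFlat_pullback p₁ (isKFlat_resF A)) ≪≫
      (Functor.associator (resF X ⋙ qC p₁) T (Q₀ Z)).symm ≪≫
      Functor.isoWhiskerRight (Functor.associator (resF X) (qC p₁) T ≪≫ Functor.isoWhiskerLeft _ e₀) _ ≪≫
      Functor.associator (resF X) (pC Δ) (Q₀ Z)
  let e₂ : resF X ⋙ pC Δ ⋙ Q₀ Z ≅ Q₀ X ⋙ DCoh.Rpush Δ :=
    Functor.isoWhiskerLeft _ (rpQ Δ) ≪≫ (Functor.associator _ _ _).symm ≪≫ Functor.isoWhiskerRight (rQ X) _
  let e₃ : DCoh.Lpull p₁ ⋙ DCoh.LTensorCx D ≅ DCoh.Rpush Δ := liftIso (e₁ ≪≫ e₂)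
  exact ⟨Functor.isoWhiskerLeft _ (Functor.isoWhiskerRight eT _) ≪≫ (Functor.associator _ _ _).symm ≪≫
    Functor.isoWhiskerRight e₃ _ ≪≫ r₁ ≪≫ r₂ ≪≫ r₃⟩

end Groth.Agent.FMTool
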