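import Groth.Agent.FMTool.BC
import Groth.Agent.ProjForm.Good
import Groth.Agent.KInj.Ops

/-!
The projection formula as an isomorphism of functors on `D_QCoh`.
-/

set_option autoImplicit false
set_option backward.isDefEq.respectTransparency false
set_option backward.isDefEq.respectTransparency.types false
set_option linter.style.haveILetI false
set_option linter.unusedSectionVars false

universe u

open CategoryTheory Limits AlgebraicGeometry HomologicalComplex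

attribute [local instance] HasDerivedCategory.standard

namespace Groth.Agent.FMTool

open Groth.Agent.KFlat Groth.Agent.ProjForm Groth.Agent.TorBC

variable {X Y : Scheme.{u}}

/-- functors agreeing naturally on K-injective complexes agree -/
theorem nonempty_natIso_of_kInj (C : ObjectProperty (DCoh.D X)) [C.IsClosedUnderIsomorphisms] {D : Type*}
    [Category* D] {F G : DCoh.D X ⥤ D} {H : CochainComplex X.Modules ℤ ⥤ D} (α : H ⟶ Q₀ X ⋙ F)
    (β : H ⟶ Q₀ X ⋙ G)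
    (h : ∀ (I : CochainComplex X.Modules ℤ) [I.IsKInjective], C ((Q₀ X).obj I) →
      IsIso (α.app I) ∧ IsIso (β.app I)) : Nonempty (C.ι ⋙ F ≅ C.ι ⋙ G) := by
  have hrep : ∀ E : C.FullSubcategory, ∃ I : CochainComplex X.Modules ℤ,
      I.IsKInjective ∧ Nonempty ((Q₀ X).obj I ≅ E.obj) := fun E => by
    obtain ⟨I, hI, ⟨e⟩⟩ := HDU.exists_kInj_rep (A := X.Modules) E.obj
    exact ⟨I, hI, ⟨e⟩⟩
  choose I hI φ' using hrep
  let φ := fun E => (φ' E).some
  have hh : ∀ E, IsIso (α.app (I E)) ∧ IsIso (β.app (I E)) := fun E => by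
    haveI := hI E
    exact h (I E) (C.prop_of_iso (φ E).symm E.property)
  let θ : ∀ E : C.FullSubcategory, F.obj E.obj ≅ G.obj E.obj := fun E =>
    F.mapIso (φ E).symm ≪≫ (@asIso _ _ _ _ (α.app (I E)) (hh E).1).symm ≪≫
      @asIso _ _ _ _ (β.app (I E)) (hh E).2 ≪≫ G.mapIso (φ E)
  refine ⟨NatIso.ofComponents θ fun {E E'} u => ?_⟩
  haveI := hI E
  haveI := hI E'
  obtain ⟨k, hk⟩ := KInj.Q_map_surjective (K := I E) (I := I E') ((φ E).hom ≫ u.hom ≫ (φ E').inv)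
  have hα := α.naturality k
  have hβ := β.naturality k
  simp only [Functor.comp_map] at hα hβ
  haveI := (hh E).1
  haveI := (hh E').1
  have hu : u.hom = (φ E).inv ≫ (Q₀ X).map k ≫ (φ E').hom := by
    rw [show (Q₀ X).map k = (φ E).hom ≫ u.hom ≫ (φ E').inv from hk]; simp
  have key : F.map ((Q₀ X).map k) ≫ inv (α.app (I E')) ≫ β.app (I E') =
      inv (α.app (I E)) ≫ β.app (I E) ≫ G.map ((Q₀ X).map k) := by
    rw [← hβ, IsIso.eq_inv_comp, ← reassoc_of% hα, IsIso.hom_inv_id_assoc]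
  simp only [θ, Functor.comp_map, ObjectProperty.ι_map, hu, Iso.trans_hom, Iso.symm_hom, Functor.mapIso_hom,
    Functor.mapIso_inv, asIso_inv, asIso_hom, Functor.map_comp, Category.assoc]
  rw [← F.map_comp_assoc (φ E').hom (φ E').inv, Iso.hom_inv_id, F.map_id, Category.id_comp, reassoc_of% key,
    ← G.map_comp_assoc (φ E).hom (φ E).inv, Iso.hom_inv_id, G.map_id, Category.id_comp]

section Abstract

variable {A A' B B' : Type*} [Category* A] [Category* A'] [Category* B] [Category* B']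

/-- a natural transformation between partially evaluated bifunctors, from its components -/
noncomputable def flipNat {p : A ⥤ A'} {q : A' ⥤ A} {T : A' ⥤ A' ⥤ A'} {S : A ⥤ A ⥤ A} (P : A')
    (θ : ∀ L : A, T.obj (p.obj L) ⟶ (q ⋙ S.obj L) ⋙ p)
    (hθ : ∀ {L L' : A} (a : L ⟶ L'), (T.map (p.map a)).app P ≫ (θ L').app P =
      (θ L).app P ≫ p.map ((S.map a).app (q.obj P))) :
    p ⋙ T.flip.obj P ⟶ S.flip.obj (q.obj P) ⋙ p where
  app L := (θ L).app P
  naturality _ _ a := hθ a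

@[simp]
lemma flipNat_app {p : A ⥤ A'} {q : A' ⥤ A} {T : A' ⥤ A' ⥤ A'} {S : A ⥤ A ⥤ A} (P : A')
    (θ : ∀ L : A, T.obj (p.obj L) ⟶ (q ⋙ S.obj L) ⋙ p)
    (hθ : ∀ {L L' : A} (a : L ⟶ L'), (T.map (p.map a)).app P ≫ (θ L').app P =
      (θ L).app P ≫ p.map ((S.map a).app (q.obj P))) (L : A) :
    (flipNat P θ hθ).app L = (θ L).app P := rfl

variable {p : A ⥤ A'} {T : A ⥤ A} {T' : A' ⥤ A'} {Q : A ⥤ B} {Q' : A' ⥤ B'} {L : B ⥤ B} {L' : B' ⥤ B'}
  {R : B ⥤ B'}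

/-- the comparison of the two sides, abstractly -/
noncomputable def betaGen (e : p ⋙ Q' ⋙ L' ≅ p ⋙ T' ⋙ Q') (e' : 𝟭 A ⋙ Q ⋙ L ≅ 𝟭 A ⋙ T ⋙ Q)
    (θ : p ⋙ T' ⟶ T ⋙ p) (w : p ⋙ Q' ⟶ Q ⋙ R) : p ⋙ Q' ⋙ L' ⟶ Q ⋙ L ⋙ R :=
  e.hom ≫ (Functor.associator _ _ _).inv ≫ Functor.whiskerRight θ Q' ≫
    (Functor.associator _ _ _).hom ≫ Functor.whiskerLeft _ w ≫ (Functor.associator _ _ _).inv ≫
    Functor.whiskerRight (((Functor.leftUnitor (T ⋙ Q)).symm ≪≫ e'.symm ≪≫ Functor.leftUnitor _).hom) R ≫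
    (Functor.associator _ _ _).hom

lemma betaGen_app (e : p ⋙ Q' ⋙ L' ≅ p ⋙ T' ⋙ Q') (e' : 𝟭 A ⋙ Q ⋙ L ≅ 𝟭 A ⋙ T ⋙ Q)
    (θ : p ⋙ T' ⟶ T ⋙ p) (w : p ⋙ Q' ⟶ Q ⋙ R) (a : A) :
    (betaGen e e' θ w).app a = e.hom.app a ≫ Q'.map (θ.app a) ≫ w.app (T.obj a) ≫ R.map (e'.inv.app a) := by
  simp [betaGen]

lemma isIso_betaGen_app (e : p ⋙ Q' ⋙ L' ≅ p ⋙ T' ⋙ Q') (e' : 𝟭 A ⋙ Q ⋙ L ≅ 𝟭 A ⋙ T ⋙ Q)
    (θ : p ⋙ T' ⟶ T ⋙ p) (w : p ⋙ Q' ⟶ Q ⋙ R) (a : A)
    (h : IsIso (Q'.map (θ.app a) ≫ w.app (T.obj a))) : IsIso ((betaGen e e' θ w).app a) := by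
  rw [betaGen_app, ← Category.assoc (Q'.map _)]
  infer_instance

end Abstract

/-- the projection morphism as a natural transformation in the first variable -/
noncomputable def thetaL (f : X ⟶ Y) (P : CochainComplex Y.Modules ℤ) :
    pC f ⋙ (DCoh.tensorCx (X := Y)).flip.obj P ⟶ (DCoh.tensorCx (X := X)).flip.obj ((qC f).obj P) ⋙ pC f :=
  flipNat (p := pC f) (q := qC f) (T := DCoh.tensorCx (X := Y)) (S := DCoh.tensorCx (X := X)) P
    (fun A => theta f A) (fun a => theta_natural_left f a P)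

/-- the comparison of both sides -/
noncomputable def projBeta (f : X ⟶ Y) [DCoh.HasRpush f] {P : CochainComplex Y.Modules ℤ} (hP : DCoh.IsKFlat P)
    [DCoh.HasLTensorCx P] [DCoh.HasLTensorCx ((qC f).obj P)] :
    pC f ⋙ Q₀ Y ⋙ DCoh.LTensorCx P ⟶ Q₀ X ⋙ DCoh.LTensorCx ((qC f).obj P) ⋙ DCoh.Rpush f :=
  betaGen (ltOnKer hP (pC f)) (ltOnKer (KFlat.isKFlat_pullback f hP) (𝟭 _)) (thetaL f P) (DQPush.unitQ f)

instance isClosedUnderIsomorphisms_isQCohD : ObjectProperty.IsClosedUnderIsomorphisms (DCoh.IsQCohD (X := X)) :=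
  ⟨fun e h i => QC.isQCoh_of_iso ((DerivedCategory.homologyFunctor _ i).mapIso e) (h i)⟩

/-- **projection formula** for a K-flat kernel -/
theorem nonempty_projNat_kFlat (f : X ⟶ Y) [QuasiCompact f] [QuasiSeparated f] [DCoh.HasRpush f]
    {P : CochainComplex Y.Modules ℤ} (hP : DCoh.IsKFlat P) (hPq : ∀ i, Coh.IsQCoh (P.homology i))
    [DCoh.HasLTensorCx P] [DCoh.HasLTensorCx ((qC f).obj P)] :
    Nonempty (ObjectProperty.ι (DCoh.IsQCohD (X := X)) ⋙ DCoh.Rpush f ⋙ DCoh.LTensorCx P ≅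
      ObjectProperty.ι (DCoh.IsQCohD (X := X)) ⋙ DCoh.LTensorCx ((qC f).obj P) ⋙ DCoh.Rpush f) := by
  refine nonempty_natIso_of_kInj (DCoh.IsQCohD (X := X))
    ((Functor.associator _ _ _).inv ≫ Functor.whiskerRight (DQPush.unitQ f) (DCoh.LTensorCx P) ≫
      (Functor.associator _ _ _).hom : pC f ⋙ Q₀ Y ⋙ DCoh.LTensorCx P ⟶ Q₀ X ⋙ DCoh.Rpush f ⋙ DCoh.LTensorCx P)
    (projBeta f hP) fun I _ hIq => ⟨?_, ?_⟩
  · haveI : IsIso ((DQPush.unitQ f).app I) := (rpushIso f I).isIso_hom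
    simp only [NatTrans.comp_app, Functor.associator_inv_app, Functor.associator_hom_app, Functor.whiskerRight_app]
    infer_instance
  · obtain ⟨J, s, hJ, hs⟩ := DerPush.exists_kInj_sch ((rhsF f I).obj P)
    haveI : QuasiIso ((theta f I).app P ≫ (pC f).map s) := quasiIso_of_qisOn _ fun y => by
      obtain ⟨V, hV, hy⟩ := QC.exists_affine_mem y
      exact ⟨V, hy, (good_iff s).1 (good_of_affine f I hV
        (fun i => QC.isQCoh_of_iso (KFlat.hdIso I i) (hIq i)) hP hPq)⟩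
    haveI : IsIso ((DQPush.unitQ f).app J) := (rpushIso f J).isIso_hom
    haveI h₁ : IsIso ((Q₀ Y).map ((theta f I).app P) ≫ (DQPush.unitQ f).app ((rhsF f I).obj P)) := by
      have hn := (DQPush.unitQ f).naturality s
      simp only [Functor.comp_map] at hn
      haveI : IsIso (((Q₀ Y).map ((theta f I).app P) ≫ (DQPush.unitQ f).app ((rhsF f I).obj P)) ≫
          (DCoh.Rpush f).map ((Q₀ X).map s)) := by
        rw [Category.assoc, ← hn, ← Category.assoc, ← Functor.map_comp]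
        infer_instance
      exact IsIso.of_isIso_comp_right _ ((DCoh.Rpush f).map ((Q₀ X).map s))
    exact isIso_betaGen_app _ _ _ _ I h₁

/-- **projection formula**, as functors on `D_QCoh` -/
theorem nonempty_projNat (f : X ⟶ Y) [QuasiCompact f] [QuasiSeparated f] [DCoh.HasRpush f] [DCoh.HasLpull f]
    (K : CochainComplex Y.Modules ℤ) (hK : DCoh.IsQCohD (DCoh.toD Y K)) [DCoh.HasLTensorCx K]
    (M : CochainComplex X.Modules ℤ) (eM : DCoh.toD X M ≅ (DCoh.Lpull f).obj (DCoh.toD Y K))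
    [DCoh.HasLTensorCx M] :
    Nonempty (ObjectProperty.ι (DCoh.IsQCohD (X := X)) ⋙ DCoh.Rpush f ⋙ DCoh.LTensorCx K ≅
      ObjectProperty.ι (DCoh.IsQCohD (X := X)) ⋙ DCoh.LTensorCx M ⋙ DCoh.Rpush f) := by
  let P := (resF Y).obj K
  haveI := KFlat.hasLTensorCx P
  haveI := KFlat.hasLTensorCx ((qC f).obj P)
  have hP : DCoh.IsKFlat P := isKFlat_resF K
  let q : DCoh.toD Y P ≅ DCoh.toD Y K := (rQ Y).app K
  have hPq : ∀ i, Coh.IsQCoh (P.homology i) := fun i =>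
    QC.isQCoh_of_iso ((DerivedCategory.homologyFunctor _ i).mapIso q.symm ≪≫ KFlat.hdIso P i) (hK i)
  obtain ⟨a⟩ := nonempty_projNat_kFlat f hP hPq
  obtain ⟨b⟩ := nonempty_ltensor_congr q
  obtain ⟨c⟩ := nonempty_ltensor_congr
    ((ProjForm.lpullIso f hP).symm ≪≫ (DCoh.Lpull f).mapIso q ≪≫ eM.symm : DCoh.toD X ((qC f).obj P) ≅ DCoh.toD X M)
  exact ⟨Functor.isoWhiskerLeft _ (Functor.isoWhiskerLeft _ b.symm) ≪≫ a ≪≫
    Functor.isoWhiskerLeft _ (Functor.isoWhiskerRight c _)⟩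

end Groth.Agent.FMTool
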