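import Groth.Agent.FMTool.Mod
import Groth.Agent.FMTool.Diag
import Groth.Agent.FMTool.Proj
import Groth.Agent.TMul.AmpleBasis

/-!
Integral functors with invertible kernels.
-/

set_option autoImplicit false
set_option backward.isDefEq.respectTransparency false
set_option backward.isDefEq.respectTransparency.types false
set_option linter.style.haveILetI false
set_option linter.unusedSectionVars false

universe u

open CategoryTheory Limits AlgebraicGeometry HomologicalComplex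

attribute [local instance] HasDerivedCategory.standard

namespace Groth.Agent.FMTool

variable {X Y Z : Scheme.{u}}

/-- invertible modules have quasi-coherent classes -/
lemma isQCohD_sg_invertible {M : X.Modules} (hM : PicF.IsInvertible M) : DCoh.IsQCohD (DCoh.toD X (TorBC.sg M)) :=
  fun i => QC.isQCoh_of_iso (KFlat.hdIso _ i).symm (TorBC.isQCoh_homology_sg (TMul.isQCoh_of_isInvertible hM) i)

/-- tensoring with an invertible module preserves quasi-coherence -/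
lemma isQCohD_ltmod {M : X.Modules} (hM : PicF.IsInvertible M) [DCoh.HasLTensorMod M] (E : DCoh.D X)
    (hE : DCoh.IsQCohD E) : DCoh.IsQCohD ((DCoh.LTensorMod M).obj E) := by
  haveI := KFlat.hasLTensorCx (TorBC.sg M)
  obtain ⟨a⟩ := nonempty_ltmod M
  exact ObjectProperty.prop_of_iso (DCoh.IsQCohD (X := X)) (a.app E).symm
    (DQCoh.isQCohD_LTensorCx _ (isQCohD_sg_invertible hM) E hE)

/-- `Li^* ∘ Lp^* = id` for a section `i` of `p` -/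
theorem nonempty_lpull_section {i : X ⟶ Z} {p : Z ⟶ X} (h : i ≫ p = 𝟙 X) [DCoh.HasLpull i] [DCoh.HasLpull p] :
    Nonempty (DCoh.Lpull p ⋙ DCoh.Lpull i ≅ 𝟭 (DCoh.D X)) := by
  haveI := KFlat.hasLpull (𝟙 X)
  obtain ⟨a⟩ := nonempty_lpull_square (show i ≫ p = 𝟙 X ≫ 𝟙 X by simpa using h)
  obtain ⟨b⟩ := nonempty_lpull_id X
  exact ⟨a ≪≫ Functor.isoWhiskerRight b _ ≪≫ Functor.leftUnitor _ ≪≫ b⟩

variable {p₁ : Z ⟶ X} {p₂ : Z ⟶ Y}

/-- restricting a transform to a point -/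
theorem nonempty_transform_point [QuasiCompact p₂] [QuasiSeparated p₂] [Flat p₂] {P : Z.Modules}
    (hP : PicF.IsInvertible P) {W : Scheme.{u}} {i : X ⟶ Z} {a : X ⟶ W} {x : W ⟶ Y} (H : IsPullback i a p₂ x)
    (hi : i ≫ p₁ = 𝟙 X) [DCoh.HasLpull p₁] [DCoh.HasLTensorMod P] [DCoh.HasRpush p₂]
    [DCoh.HasLTensorMod ((Scheme.Modules.pullback i).obj P)] [DCoh.HasRpush a] [DCoh.HasLpull x] :
    Nonempty (ObjectProperty.ι (DCoh.IsQCohD (X := X)) ⋙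
        DCoh.LTensorMod ((Scheme.Modules.pullback i).obj P) ⋙ DCoh.Rpush a ≅
      ObjectProperty.ι (DCoh.IsQCohD (X := X)) ⋙
        (DCoh.Lpull p₁ ⋙ DCoh.LTensorMod P ⋙ DCoh.Rpush p₂) ⋙ DCoh.Lpull x) := by
  haveI := KFlat.hasLpull i
  obtain ⟨eBC⟩ := nonempty_bcNat H (Or.inr ‹Flat p₂›)
  obtain ⟨eT⟩ := nonempty_ltmod_lpull i hP
  obtain ⟨eS⟩ := nonempty_lpull_section hi
  let G := DCoh.Lpull p₁ ⋙ DCoh.LTensorMod P
  have hG : ∀ E, DCoh.IsQCohD E → DCoh.IsQCohD (G.obj E) := fun E hE =>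
    isQCohD_ltmod hP _ (DQCoh.isQCohD_Lpull p₁ E hE)
  let e₁ : G ⋙ DCoh.Lpull i ≅ DCoh.LTensorMod ((Scheme.Modules.pullback i).obj P) :=
    Functor.associator _ _ _ ≪≫ Functor.isoWhiskerLeft _ eT ≪≫ (Functor.associator _ _ _).symm ≪≫
      Functor.isoWhiskerRight eS _ ≪≫ Functor.leftUnitor _
  let e₂ : G ⋙ DCoh.Rpush p₂ ⋙ DCoh.Lpull x ≅
      (DCoh.Lpull p₁ ⋙ DCoh.LTensorMod P ⋙ DCoh.Rpush p₂) ⋙ DCoh.Lpull x :=
    (Functor.associator _ _ _).symm ≪≫ Functor.isoWhiskerRight (Functor.associator _ _ _) _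
  exact ⟨Functor.isoWhiskerLeft _ ((Functor.isoWhiskerRight e₁ _).symm ≪≫ Functor.associator _ _ _) ≪≫
    (restrictNat hG eBC).symm ≪≫ Functor.isoWhiskerLeft _ e₂⟩

/-- translating on the target -/
theorem nonempty_transform_translate_target [QuasiCompact p₂] [QuasiSeparated p₂] [Flat p₂] {P : Z.Modules}
    (hP : PicF.IsInvertible P) {g : Z ⟶ Z} {t : Y ⟶ Y} (H : IsPullback g p₂ p₂ t) (hg : g ≫ p₁ = p₁)
    {M : X.Modules} (hM : PicF.IsInvertible M)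
    (e : (Scheme.Modules.pullback g).obj P ≅ CohB1.tensorMod ((Scheme.Modules.pullback p₁).obj M) P)
    [DCoh.HasLpull p₁] [DCoh.HasLTensorMod P] [DCoh.HasRpush p₂] [DCoh.HasLTensorMod M] [DCoh.HasLpull t] :
    Nonempty (ObjectProperty.ι (DCoh.IsQCohD (X := X)) ⋙ DCoh.LTensorMod M ⋙
        (DCoh.Lpull p₁ ⋙ DCoh.LTensorMod P ⋙ DCoh.Rpush p₂) ≅
      ObjectProperty.ι (DCoh.IsQCohD (X := X)) ⋙
        (DCoh.Lpull p₁ ⋙ DCoh.LTensorMod P ⋙ DCoh.Rpush p₂) ⋙ DCoh.Lpull t) := by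
  haveI := KFlat.hasLpull g
  let M' := (Scheme.Modules.pullback p₁).obj M
  haveI := KFlat.hasLTensorMod M'
  haveI := KFlat.hasLTensorMod ((Scheme.Modules.pullback g).obj P)
  haveI := KFlat.hasLTensorMod (CohB1.tensorMod M' P)
  obtain ⟨eBC⟩ := nonempty_bcNat H (Or.inr ‹Flat p₂›)
  obtain ⟨eT⟩ := nonempty_ltmod_lpull g hP
  haveI := KFlat.hasLpull (𝟙 X)
  obtain ⟨eS⟩ := nonempty_lpull_square (show g ≫ p₁ = p₁ ≫ 𝟙 X by simpa using hg)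
  obtain ⟨e₀⟩ := nonempty_lpull_id X
  obtain ⟨eC⟩ := nonempty_ltmod_congr e
  obtain ⟨eM⟩ := nonempty_ltmod_comp (PicLoc.isInvertible_pullback p₁ hM) P
  obtain ⟨eP⟩ := nonempty_ltmod_lpull p₁ hM
  let G := DCoh.Lpull p₁ ⋙ DCoh.LTensorMod P
  have hG : ∀ E, DCoh.IsQCohD E → DCoh.IsQCohD (G.obj E) := fun E hE =>
    isQCohD_ltmod hP _ (DQCoh.isQCohD_Lpull p₁ E hE)
  let e₁ : G ⋙ DCoh.Lpull g ≅ DCoh.LTensorMod M ⋙ G :=
    Functor.associator _ _ _ ≪≫ Functor.isoWhiskerLeft _ (eT ≪≫ Functor.isoWhiskerLeft _ (eC ≪≫ eM.symm)) ≪≫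
      (Functor.associator _ _ _).symm ≪≫
      Functor.isoWhiskerRight (eS ≪≫ Functor.isoWhiskerRight e₀ _ ≪≫ Functor.leftUnitor _) _ ≪≫
      (Functor.associator _ _ _).symm ≪≫ Functor.isoWhiskerRight eP.symm _ ≪≫ Functor.associator _ _ _
  let e₂ : G ⋙ DCoh.Rpush p₂ ⋙ DCoh.Lpull t ≅
      (DCoh.Lpull p₁ ⋙ DCoh.LTensorMod P ⋙ DCoh.Rpush p₂) ⋙ DCoh.Lpull t :=
    (Functor.associator _ _ _).symm ≪≫ Functor.isoWhiskerRight (Functor.associator _ _ _) _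
  let e₃ : G ⋙ DCoh.Lpull g ⋙ DCoh.Rpush p₂ ≅
      DCoh.LTensorMod M ⋙ (DCoh.Lpull p₁ ⋙ DCoh.LTensorMod P ⋙ DCoh.Rpush p₂) :=
    (Functor.associator _ _ _).symm ≪≫ Functor.isoWhiskerRight e₁ _ ≪≫ Functor.associator _ _ _ ≪≫
      Functor.isoWhiskerLeft _ (Functor.associator _ _ _)
  exact ⟨Functor.isoWhiskerLeft _ e₃.symm ≪≫ (restrictNat hG eBC).symm ≪≫ Functor.isoWhiskerLeft _ e₂⟩

/-- translating on the source -/
theorem nonempty_transform_translate_source [QuasiCompact p₂] [QuasiSeparated p₂] [Flat p₂] {P : Z.Modules}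
    (hP : PicF.IsInvertible P) {g : Z ⟶ Z} {t : X ⟶ X} (H : IsPullback g p₂ p₂ (𝟙 Y)) (hg : g ≫ p₁ = p₁ ≫ t)
    {N : Y.Modules} (hN : PicF.IsInvertible N)
    (e : (Scheme.Modules.pullback g).obj (CohB1.tensorMod P ((Scheme.Modules.pullback p₂).obj N)) ≅ P)
    (hP' : PicF.IsInvertible (CohB1.tensorMod P ((Scheme.Modules.pullback p₂).obj N)))
    [DCoh.HasLpull p₁] [DCoh.HasLTensorMod P] [DCoh.HasRpush p₂] [DCoh.HasLTensorMod N] [DCoh.HasLpull t] :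
    Nonempty (ObjectProperty.ι (DCoh.IsQCohD (X := X)) ⋙ DCoh.Lpull t ⋙
        (DCoh.Lpull p₁ ⋙ DCoh.LTensorMod P ⋙ DCoh.Rpush p₂) ≅
      ObjectProperty.ι (DCoh.IsQCohD (X := X)) ⋙
        (DCoh.Lpull p₁ ⋙ DCoh.LTensorMod P ⋙ DCoh.Rpush p₂) ⋙ DCoh.LTensorMod N) := by
  haveI := KFlat.hasLpull g
  haveI := KFlat.hasLpull (𝟙 Y)
  haveI := KFlat.hasLpull p₂
  let N' := (Scheme.Modules.pullback p₂).obj N
  let P' := CohB1.tensorMod P N'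
  haveI := KFlat.hasLTensorMod N'
  haveI := KFlat.hasLTensorMod P'
  haveI := KFlat.hasLTensorMod ((Scheme.Modules.pullback g).obj P')
  haveI := KFlat.hasLTensorCx (TorBC.sg N)
  haveI := KFlat.hasLTensorCx (TorBC.sg N')
  obtain ⟨eBC⟩ := nonempty_bcNat H (Or.inr ‹Flat p₂›)
  obtain ⟨eT⟩ := nonempty_ltmod_lpull g hP'
  obtain ⟨eS⟩ := nonempty_lpull_square hg
  obtain ⟨eC⟩ := nonempty_ltmod_congr e
  obtain ⟨eM⟩ := nonempty_ltmod_comp hP N'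
  obtain ⟨eI⟩ := nonempty_lpull_id Y
  obtain ⟨lN⟩ := nonempty_ltmod N
  obtain ⟨lN'⟩ := nonempty_ltmod N'
  obtain ⟨sN⟩ := nonempty_lpull_sg p₂ hN
  obtain ⟨eQ⟩ := nonempty_projNat p₂ (TorBC.sg N) (isQCohD_sg_invertible hN) (TorBC.sg N') sN
  let G := DCoh.Lpull p₁ ⋙ DCoh.LTensorMod P
  let G' := DCoh.Lpull p₁ ⋙ DCoh.LTensorMod P'
  have hG : ∀ E, DCoh.IsQCohD E → DCoh.IsQCohD (G.obj E) := fun E hE =>
    isQCohD_ltmod hP _ (DQCoh.isQCohD_Lpull p₁ E hE)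
  have hG' : ∀ E, DCoh.IsQCohD E → DCoh.IsQCohD (G'.obj E) := fun E hE =>
    isQCohD_ltmod hP' _ (DQCoh.isQCohD_Lpull p₁ E hE)
  let ι := ObjectProperty.ι (DCoh.IsQCohD (X := X))
  let f₁ : DCoh.Lpull t ⋙ G ≅ G' ⋙ DCoh.Lpull g :=
    (Functor.associator _ _ _).symm ≪≫ Functor.isoWhiskerRight eS.symm _ ≪≫ Functor.associator _ _ _ ≪≫
      Functor.isoWhiskerLeft _ (Functor.isoWhiskerLeft _ eC.symm ≪≫ eT.symm) ≪≫ (Functor.associator _ _ _).symm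
  let e₁ : ι ⋙ DCoh.Lpull t ⋙ (DCoh.Lpull p₁ ⋙ DCoh.LTensorMod P ⋙ DCoh.Rpush p₂) ≅
      ι ⋙ G' ⋙ DCoh.Lpull g ⋙ DCoh.Rpush p₂ :=
    Functor.isoWhiskerLeft ι (Functor.isoWhiskerLeft _ (Functor.associator _ _ _).symm ≪≫
      (Functor.associator _ _ _).symm ≪≫ Functor.isoWhiskerRight f₁ _ ≪≫ Functor.associator _ _ _)
  let e₂ : ι ⋙ G' ⋙ DCoh.Lpull g ⋙ DCoh.Rpush p₂ ≅ ι ⋙ G' ⋙ DCoh.Rpush p₂ :=
    (restrictNat hG' eBC).symm ≪≫ Functor.isoWhiskerLeft ι (Functor.isoWhiskerLeft _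
      (Functor.isoWhiskerLeft _ eI ≪≫ Functor.rightUnitor _))
  let f₂ : G' ≅ G ⋙ DCoh.LTensorCx (TorBC.sg N') :=
    Functor.isoWhiskerLeft _ (eM.symm ≪≫ Functor.isoWhiskerLeft _ lN') ≪≫ (Functor.associator _ _ _).symm
  let e₃ : ι ⋙ G' ⋙ DCoh.Rpush p₂ ≅ ι ⋙ G ⋙ DCoh.LTensorCx (TorBC.sg N') ⋙ DCoh.Rpush p₂ :=
    Functor.isoWhiskerLeft ι (Functor.isoWhiskerRight f₂ _ ≪≫ Functor.associator _ _ _)
  let e₄ : ι ⋙ G ⋙ DCoh.LTensorCx (TorBC.sg N') ⋙ DCoh.Rpush p₂ ≅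
      ι ⋙ (DCoh.Lpull p₁ ⋙ DCoh.LTensorMod P ⋙ DCoh.Rpush p₂) ⋙ DCoh.LTensorMod N :=
    (restrictNat hG eQ).symm ≪≫ Functor.isoWhiskerLeft ι (Functor.isoWhiskerLeft G
      (Functor.isoWhiskerLeft _ lN.symm) ≪≫ (Functor.associator _ _ _).symm ≪≫
      Functor.isoWhiskerRight (Functor.associator _ _ _) _)
  exact ⟨e₁ ≪≫ e₂ ≪≫ e₃ ≪≫ e₄⟩

end Groth.Agent.FMTool
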