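import Groth.Agent.FMTool.BC
import Groth.Prelude.Def_DualFM

/-!
Fourier–Mukai transforms and base change.
-/

set_option autoImplicit false
set_option backward.isDefEq.respectTransparency false
set_option backward.isDefEq.respectTransparency.types false
set_option linter.style.haveILetI false
set_option linter.unusedSectionVars false

universe u

open CategoryTheory Limits AlgebraicGeometry HomologicalComplex

attribute [local instance] HasDerivedCategory.standard

namespace Groth.Agent.FMTool

variable {S S' X Y : Scheme.{u}} (a : X ⟶ S) (b : Y ⟶ S) (g : S' ⟶ S)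

/-- `(X ×_S Y)_{S'} ⟶ X ×_S Y` -/
noncomputable abbrev bcPair : pullback (pullback.snd a g) (pullback.snd b g) ⟶ pullback a b :=
  pullback.map (pullback.snd a g) (pullback.snd b g) a b (pullback.fst a g) (pullback.fst b g) g
    pullback.condition.symm pullback.condition.symm

/-- the square of second projections is cartesian -/
lemma isPullback_bcPair :
    IsPullback (bcPair a b g) (pullback.snd (pullback.snd a g) (pullback.snd b g)) (pullback.snd a b)
      (pullback.fst b g) := by
  refine IsPullback.of_right ?_ (by simp [bcPair]) (IsPullback.of_hasPullback a b)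
  have h := (IsPullback.of_hasPullback (pullback.snd a g) (pullback.snd b g)).paste_horiz
    (IsPullback.of_hasPullback a g)
  rw [← pullback.condition] at h
  have e : bcPair a b g ≫ pullback.fst a b =
      pullback.fst (pullback.snd a g) (pullback.snd b g) ≫ pullback.fst a g := by simp [bcPair]
  rw [e]
  exact h

/-- **Fourier–Mukai transforms commute with base change** -/
theorem nonempty_phi_bc [QuasiCompact a] [QuasiSeparated a] (hflat : Flat g ∨ Flat a)
    (K : CochainComplex (pullback a b).Modules ℤ) (hK : DCoh.IsQCohD (DCoh.toD _ K))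
    [DCoh.HasLpull (pullback.fst a b)] [DCoh.HasLTensorCx K] [DCoh.HasRpush (pullback.snd a b)]
    [DCoh.HasLpull (pullback.fst a g)] [DCoh.HasLpull (pullback.fst b g)] [DCoh.HasLpull (bcPair a b g)]
    (K' : CochainComplex (pullback (pullback.snd a g) (pullback.snd b g)).Modules ℤ)
    (hK' : Nonempty (DCoh.toD _ K' ≅ (DCoh.Lpull (bcPair a b g)).obj (DCoh.toD _ K)))
    [DCoh.HasLpull (pullback.fst (pullback.snd a g) (pullback.snd b g))] [DCoh.HasLTensorCx K']
    [DCoh.HasRpush (pullback.snd (pullback.snd a g) (pullback.snd b g))] :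
    Nonempty (ObjectProperty.ι (DCoh.IsQCohD (X := X)) ⋙ DCoh.Lpull (pullback.fst a g) ⋙
        FMK.phi (pullback.snd a g) (pullback.snd b g) K' ≅
      ObjectProperty.ι (DCoh.IsQCohD (X := X)) ⋙ FMK.phi a b K ⋙ DCoh.Lpull (pullback.fst b g)) := by
  obtain ⟨eK⟩ := hK'
  let π := pullback.fst a g
  let ϖ := pullback.fst b g
  let P := bcPair a b g
  let p₁ := pullback.fst a b
  let p₂ := pullback.snd a b
  let q₁ := pullback.fst (pullback.snd a g) (pullback.snd b g)
  let q₂ := pullback.snd (pullback.snd a g) (pullback.snd b g)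
  haveI : QuasiCompact p₂ := MorphismProperty.of_isPullback (IsPullback.of_hasPullback a b) ‹QuasiCompact a›
  haveI : QuasiSeparated p₂ := MorphismProperty.of_isPullback (IsPullback.of_hasPullback a b) ‹QuasiSeparated a›
  have hflat' : Flat ϖ ∨ Flat p₂ := hflat.imp
    (fun h => MorphismProperty.of_isPullback (IsPullback.of_hasPullback b g).flip h)
    (fun h => MorphismProperty.of_isPullback (IsPullback.of_hasPullback a b) h)
  obtain ⟨eBC⟩ := nonempty_bcNat (isPullback_bcPair a b g) hflat'
  obtain ⟨eT⟩ := nonempty_lpull_ltensor P K K' eK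
  obtain ⟨eS⟩ := nonempty_lpull_square (show P ≫ p₁ = q₁ ≫ π by simp [P, bcPair, p₁, q₁, π])
  let G := DCoh.Lpull p₁ ⋙ DCoh.LTensorCx K
  have hG : ∀ E, DCoh.IsQCohD E → DCoh.IsQCohD (G.obj E) := fun E hE =>
    DQCoh.isQCohD_LTensorCx K hK _ (DQCoh.isQCohD_Lpull p₁ E hE)
  let e₁ : G ⋙ DCoh.Lpull P ≅ DCoh.Lpull π ⋙ DCoh.Lpull q₁ ⋙ DCoh.LTensorCx K' :=
    Functor.associator _ _ _ ≪≫ Functor.isoWhiskerLeft _ eT ≪≫ (Functor.associator _ _ _).symm ≪≫
      Functor.isoWhiskerRight eS _ ≪≫ Functor.associator _ _ _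
  let e₂ : G ⋙ DCoh.Lpull P ⋙ DCoh.Rpush q₂ ≅
      DCoh.Lpull π ⋙ FMK.phi (pullback.snd a g) (pullback.snd b g) K' :=
    (Functor.associator _ _ _).symm ≪≫ Functor.isoWhiskerRight e₁ _ ≪≫ Functor.associator _ _ _ ≪≫
      Functor.isoWhiskerLeft _ (Functor.associator _ _ _)
  let e₃ : FMK.phi a b K ⋙ DCoh.Lpull ϖ ≅ G ⋙ DCoh.Rpush p₂ ⋙ DCoh.Lpull ϖ :=
    Functor.isoWhiskerRight (Functor.associator _ _ _).symm _ ≪≫ Functor.associator _ _ _
  exact ⟨Functor.isoWhiskerLeft _ e₂.symm ≪≫ (restrictNat hG eBC).symm ≪≫ Functor.isoWhiskerLeft _ e₃.symm⟩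

end Groth.Agent.FMTool
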